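import Cfsg.Prelude.Def_Transfer
import Cfsg.Agent.Lib.Element

/-!
# Groups with a normal `p`-complement: cosets of the complement
-/

set_option autoImplicit false
set_option linter.unusedSectionVars false

namespace Cfsg.Agent.DihBlock

variable {H : Type*} [Group H] [Finite H] {p : ℕ} [Fact p.Prime]

theorem exists_split (h : Cfsg.HasNormalPComplement p H) (Q : Sylow p H) :
    ∃ N : Subgroup H, N.Normal ∧ ¬ p ∣ Nat.card N ∧ (Q : Subgroup H).IsComplement' N ∧
      N.index = Nat.card (Q : Subgroup H) ∧ ∀ y : H, ¬ p ∣ orderOf y → y ∈ N := by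
  obtain ⟨R, N, hN, hc⟩ := h
  haveI := hN
  have hRQ : Nat.card (R : Subgroup H) = Nat.card (Q : Subgroup H) :=
    Nat.card_congr (Sylow.equiv R Q).toEquiv
  have hidx : N.index = Nat.card (Q : Subgroup H) := by rw [hc.symm.index_eq_card, hRQ]
  have hNo : ¬ p ∣ Nat.card N := by
    intro h
    apply R.not_dvd_index
    rwa [hc.index_eq_card]
  have hcop : (Nat.card (Q : Subgroup H)).Coprime (Nat.card N) := by
    obtain ⟨k, hk⟩ := IsPGroup.iff_card.mp Q.isPGroup'
    rw [hk]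
    exact ((Fact.out : p.Prime).coprime_iff_not_dvd.mpr hNo).pow_left _
  refine ⟨N, hN, hNo, Subgroup.isComplement'_of_coprime ?_ hcop, hidx,
    fun y hy => Element.mem_of_coprime_index ?_⟩
  · rw [← hidx, N.index_mul_card]
  · obtain ⟨k, hk⟩ := IsPGroup.iff_card.mp Q.isPGroup'
    rw [hidx, hk]
    exact (Nat.coprime_comm.mp ((Fact.out : p.Prime).coprime_iff_not_dvd.mpr hy)).pow_right _

variable {Q : Sylow p H} {N : Subgroup H} [hN : N.Normal]

theorem eq_of_div_mem (hc : (Q : Subgroup H).IsComplement' N) {a b : H}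
    (ha : a ∈ (Q : Subgroup H)) (hb : b ∈ (Q : Subgroup H)) (h : a * b⁻¹ ∈ N) : a = b :=
  mul_inv_eq_one.mp ((Subgroup.disjoint_def.mp hc.disjoint) (mul_mem ha (inv_mem hb)) h)

/-- A `p`-element of the coset of `u ∈ Q` is conjugate to `u` under the complement. -/
theorem exists_conj_eq (hc : (Q : Subgroup H).IsComplement' N) {u w : H}
    (hu : u ∈ (Q : Subgroup H)) {k : ℕ} (hw : orderOf w = p ^ k) (hwu : w * u⁻¹ ∈ N) :
    ∃ n ∈ N, n * w * n⁻¹ = u := by
  obtain ⟨R, hR⟩ := (IsPGroup.of_card (G := Subgroup.zpowers w) (n := k)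
    (by rw [Nat.card_zpowers, hw])).exists_le_sylow
  obtain ⟨c, hcR⟩ := MulAction.exists_smul_eq H R Q
  have hcw : c * w * c⁻¹ ∈ (Q : Subgroup H) := by
    rw [← hcR, Sylow.coe_subgroup_smul]
    exact ⟨w, hR (Subgroup.mem_zpowers w), rfl⟩
  obtain ⟨⟨q, n⟩, hqn, -⟩ := hc.existsUnique c
  simp only at hqn
  have hnw : (n : H) * w * (n : H)⁻¹ ∈ (Q : Subgroup H) := by
    have := mul_mem (mul_mem (inv_mem q.2) hcw) q.2
    rwa [← hqn, show (q : H)⁻¹ * ((q : H) * n * w * ((q : H) * n)⁻¹) * q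
      = (n : H) * w * (n : H)⁻¹ by group] at this
  refine ⟨n, n.2, eq_of_div_mem hc hnw hu ?_⟩
  rw [show (n : H) * w * (n : H)⁻¹ * u⁻¹ = (n : H) * (w * (n : H)⁻¹ * w⁻¹) * (w * u⁻¹) by group]
  exact mul_mem (mul_mem n.2 (hN.conj_mem _ (inv_mem n.2) w)) hwu

/-- Centralizing `u` modulo the complement. -/
theorem card_commutator_mem (hc : (Q : Subgroup H).IsComplement' N) {u : H}
    (hu : u ∈ (Q : Subgroup H)) :
    Nat.card {c : H // c * u * c⁻¹ * u⁻¹ ∈ N}
      = Nat.card {q : (Q : Subgroup H) // (q : H) * u = u * q} * Nat.card N := by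
  rw [← Nat.card_prod]
  let f : {q : (Q : Subgroup H) // (q : H) * u = u * q} × N → {c : H // c * u * c⁻¹ * u⁻¹ ∈ N} :=
    fun x => ⟨(x.1.1 : H) * x.2, ?_⟩
  refine (Nat.card_eq_of_bijective f ⟨?_, ?_⟩).symm
  rotate_left 2
  · have h1 : (x.1.1 : H) * u * (x.1.1 : H)⁻¹ = u := by rw [x.1.2, mul_inv_cancel_right]
    have : (x.1.1 : H) * x.2 * u * ((x.1.1 : H) * x.2)⁻¹ * u⁻¹
        = (x.1.1 : H) * ((x.2 : H) * (u * (x.2 : H)⁻¹ * u⁻¹)) * (x.1.1 : H)⁻¹
          * ((x.1.1 : H) * u * (x.1.1 : H)⁻¹) * u⁻¹ := by group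
    rw [this, h1, mul_inv_cancel_right]
    exact hN.conj_mem _ (mul_mem x.2.2 (hN.conj_mem _ (inv_mem x.2.2) u)) _
  · intro x y h
    obtain ⟨h1, h2⟩ := Prod.mk.inj ((hc.existsUnique ((x.1.1 : H) * x.2)).unique
      (y₁ := (x.1.1, x.2)) (y₂ := (y.1.1, y.2)) rfl (congrArg Subtype.val h).symm)
    exact Prod.ext (Subtype.ext h1) h2
  · rintro ⟨c, hcu⟩
    obtain ⟨⟨q, n⟩, hqn, -⟩ := hc.existsUnique c
    simp only at hqn
    refine ⟨(⟨q, ?_⟩, n), Subtype.ext hqn⟩
    have hq : (q : H) * u * (q : H)⁻¹ ∈ (Q : Subgroup H) := mul_mem (mul_mem q.2 hu) (inv_mem q.2)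
    have key := eq_of_div_mem hc hq hu (by
      have h3 : (q : H) * ((n : H) * (u * (n : H)⁻¹ * u⁻¹))⁻¹ * (q : H)⁻¹ ∈ N :=
        hN.conj_mem _ (inv_mem (mul_mem n.2 (hN.conj_mem _ (inv_mem n.2) u))) _
      have := mul_mem h3 hcu
      rwa [← hqn, show (q : H) * ((n : H) * (u * (n : H)⁻¹ * u⁻¹))⁻¹ * (q : H)⁻¹
        * ((q : H) * n * u * ((q : H) * n)⁻¹ * u⁻¹) = (q : H) * u * (q : H)⁻¹ * u⁻¹ by group]
        at this)
    exact mul_inv_eq_iff_eq_mul.mp key

theorem card_centralizer_split (hc : (Q : Subgroup H).IsComplement' N) {u : H}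
    (hu : u ∈ (Q : Subgroup H)) :
    Nat.card (Subgroup.centralizer ({u} : Set H))
      = Nat.card {q : (Q : Subgroup H) // (q : H) * u = u * q}
        * Nat.card {n : N // (n : H) * u = u * n} := by
  rw [← Nat.card_prod]
  let f : {q : (Q : Subgroup H) // (q : H) * u = u * q} × {n : N // (n : H) * u = u * n} →
      Subgroup.centralizer ({u} : Set H) :=
    fun x => ⟨(x.1.1 : H) * x.2.1, ?_⟩
  refine (Nat.card_eq_of_bijective f ⟨?_, ?_⟩).symm
  rotate_left 2
  · rw [Subgroup.mem_centralizer_singleton_iff, mul_assoc, x.2.2, ← mul_assoc, x.1.2, mul_assoc]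
  · intro x y h
    obtain ⟨h1, h2⟩ := Prod.mk.inj ((hc.existsUnique ((x.1.1 : H) * x.2.1)).unique
      (y₁ := (x.1.1, x.2.1)) (y₂ := (y.1.1, y.2.1)) rfl (congrArg Subtype.val h).symm)
    exact Prod.ext (Subtype.ext h1) (Subtype.ext h2)
  · rintro ⟨c, hcu⟩
    rw [Subgroup.mem_centralizer_singleton_iff] at hcu
    obtain ⟨⟨q, n⟩, hqn, -⟩ := hc.existsUnique c
    simp only at hqn
    have hq : (q : H) * u * (q : H)⁻¹ ∈ (Q : Subgroup H) := mul_mem (mul_mem q.2 hu) (inv_mem q.2)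
    have e1 : c * u * c⁻¹ = u := by rw [hcu, mul_inv_cancel_right]
    have key := eq_of_div_mem hc hq hu (by
      have h3 : (q : H) * ((n : H) * (u * (n : H)⁻¹ * u⁻¹))⁻¹ * (q : H)⁻¹ ∈ N :=
        hN.conj_mem _ (inv_mem (mul_mem n.2 (hN.conj_mem _ (inv_mem n.2) u))) _
      have h4 : c * u * c⁻¹ * u⁻¹ ∈ N := by rw [e1, mul_inv_cancel]; exact one_mem _
      have := mul_mem h3 h4
      rwa [← hqn, show (q : H) * ((n : H) * (u * (n : H)⁻¹ * u⁻¹))⁻¹ * (q : H)⁻¹
        * ((q : H) * n * u * ((q : H) * n)⁻¹ * u⁻¹) = (q : H) * u * (q : H)⁻¹ * u⁻¹ by group]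
        at this)
    have key' := mul_inv_eq_iff_eq_mul.mp key
    refine ⟨(⟨q, key'⟩, ⟨n, ?_⟩), Subtype.ext hqn⟩
    rw [← hqn] at hcu
    refine mul_left_cancel (a := (q : H)) ?_
    rw [← mul_assoc, hcu, ← mul_assoc, ← key', mul_assoc]

theorem ordProj_centralizer (hc : (Q : Subgroup H).IsComplement' N) (hNo : ¬ p ∣ Nat.card N)
    {u : H} (hu : u ∈ (Q : Subgroup H)) :
    ordProj[p] (Nat.card (Subgroup.centralizer ({u} : Set H)))
      = Nat.card {q : (Q : Subgroup H) // (q : H) * u = u * q} := by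
  set A : Subgroup (Q : Subgroup H) :=
    (Subgroup.centralizer ({u} : Set H)).comap (Q : Subgroup H).subtype
  have hA : Nat.card {q : (Q : Subgroup H) // (q : H) * u = u * q} = Nat.card A :=
    Nat.card_congr (Equiv.subtypeEquivRight fun q => by
      rw [Subgroup.mem_comap, Subgroup.mem_centralizer_singleton_iff]; rfl)
  set B : Subgroup N := (Subgroup.centralizer ({u} : Set H)).comap N.subtype
  have hB : Nat.card {n : N // (n : H) * u = u * n} = Nat.card B :=
    Nat.card_congr (Equiv.subtypeEquivRight fun n => by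
      rw [Subgroup.mem_comap, Subgroup.mem_centralizer_singleton_iff]; rfl)
  obtain ⟨a, ha⟩ := IsPGroup.iff_card.mp (Q.isPGroup'.to_subgroup A)
  have hBp : ¬ p ∣ Nat.card B := fun h => hNo (h.trans B.card_subgroup_dvd_card)
  rw [card_centralizer_split hc hu, hA, hB, ha, Nat.factorization_mul
    (pow_ne_zero _ (Fact.out : p.Prime).ne_zero) Nat.card_pos.ne', Finsupp.add_apply,
    (Fact.out : p.Prime).factorization_pow, Finsupp.single_eq_same,
    Nat.factorization_eq_zero_of_not_dvd hBp, add_zero]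

/-- The number of conjugates of `q ∈ Q` under the complement. -/
theorem card_coset_conj (hc : (Q : Subgroup H).IsComplement' N) {q : H}
    (hq : q ∈ (Q : Subgroup H)) {k : ℕ} (hk : orderOf q = p ^ k) :
    Nat.card {s : H // orderOf s = p ^ k ∧ s * q⁻¹ ∈ N} * Nat.card {n : N // (n : H) * q = q * n}
      = Nat.card N := by
  classical
  haveI := Fintype.ofFinite H
  haveI := Fintype.ofFinite N
  let f : N → {s : H // orderOf s = p ^ k ∧ s * q⁻¹ ∈ N} := fun n => ⟨(n : H) * q * (n : H)⁻¹, by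
    refine ⟨?_, ?_⟩
    · rw [← hk]
      exact orderOf_injective (MulAut.conj (n : H)).toMonoidHom (MulAut.conj (n : H)).injective q
    · rw [show (n : H) * q * (n : H)⁻¹ * q⁻¹ = (n : H) * (q * (n : H)⁻¹ * q⁻¹) by group]
      exact mul_mem n.2 (hN.conj_mem _ (inv_mem n.2) q)⟩
  rw [Nat.card_eq_fintype_card (α := N), ← Finset.card_univ,
    Finset.card_eq_sum_card_fiberwise (f := f) (t := Finset.univ) (fun x _ => Finset.mem_univ _)]
  rw [Finset.sum_congr rfl (g := fun _ => Nat.card {n : N // (n : H) * q = q * n})]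
  · simp [Nat.card_eq_fintype_card]
  rintro ⟨s, hs, hsq⟩ -
  obtain ⟨m, hm, hms⟩ := exists_conj_eq hc hq hs hsq
  rw [Nat.card_eq_fintype_card, Fintype.card_subtype]
  refine Finset.card_equiv (Equiv.mulLeft (⟨m, hm⟩ : N)) fun n => ?_
  simp only [Finset.mem_filter, Finset.mem_univ, true_and, f, Subtype.ext_iff,
    Equiv.coe_mulLeft, Subgroup.coe_mul]
  constructor
  · intro e
    rw [← e] at hms
    calc m * n * q = m * ((n : H) * q * (n : H)⁻¹) * m⁻¹ * (m * n) := by group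
      _ = q * (m * n) := by rw [hms]
  · intro e
    calc (n : H) * q * (n : H)⁻¹ = m⁻¹ * (m * n * q) * (n : H)⁻¹ := by group
      _ = m⁻¹ * q * m := by rw [e]; group
      _ = s := by rw [← hms]; group

end Cfsg.Agent.DihBlock
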