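import Cfsg.Prelude.Def_Blocks
import Cfsg.Agent.Brauer.SectionColumns
import Cfsg.Agent.Brauer.Sections
import Cfsg.Agent.Brauer.CharBasics
import Cfsg.Agent.Transfer.Residual
import Cfsg.Agent.DihBlock.Complement

/-!
# Principal block columns at `p`-elements with `p`-nilpotent centralizer
-/

set_option autoImplicit false
set_option linter.unusedSectionVars false
set_option linter.style.haveILetI false

open scoped ComplexConjugate
open Cfsg
open Cfsg.Agent.Block

namespace Cfsg.Agent.DihBlock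

universe u

variable {G : Type u} [Group G] [Fintype G] {p : ℕ} {M : Ideal AlgInt}

/-- The principal block as a finite set. -/
noncomputable def pb (M : Ideal AlgInt) (G : Type u) [Group G] [Fintype G] :
    Finset (IrrCharacter G) :=
  (Set.toFinite (principalBlock M G)).toFinset

theorem mem_pb {χ : IrrCharacter G} : χ ∈ pb M G ↔ χ ∈ principalBlock M G :=
  Set.Finite.mem_toFinset _

theorem finsum_pb (f : IrrCharacter G → ℂ) :
    ∑ᶠ χ ∈ principalBlock M G, f χ = ∑ χ ∈ pb M G, f χ :=
  finsum_mem_eq_finite_toFinset_sum _ _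

theorem trivial_mem_pb (hM : IsPModular p M) : Char.trivialIrr G ∈ pb M G := by
  haveI : M.IsPrime := hM.2.1.isPrime
  rw [mem_pb, Brauer.principalBlock_eq_blockOf_trivial]
  exact Cfsg.Agent.Block.mem_blockOf_self (Char.trivialIrr G)

theorem mem_centralizer_self (v : G) : v ∈ Subgroup.centralizer ({v} : Set G) :=
  Subgroup.mem_centralizer_singleton_iff.mpr rfl

/-- A column of the principal block against a `p`-regular element. -/
theorem col_regular (hM : IsPModular p M) {v ρ : G} {k : ℕ} (hv : orderOf v = p ^ k) (hv1 : v ≠ 1)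
    (hρ : ¬ p ∣ orderOf ρ) :
    ∑ χ ∈ pb M G, (χ : G → ℂ) v * conj ((χ : G → ℂ) ρ) = 0 := by
  classical
  haveI := Fintype.ofFinite (Subgroup.centralizer ({v} : Set G))
  have hnc : ¬ IsConj v (Element.pPart p ρ) := by
    rw [(Element.pPart_eq_one hM.1 (Nat.coprime_comm.mp (hM.1.coprime_iff_not_dvd.mpr hρ))).1]
    intro h; exact hv1 (isConj_one_left.mp h)
  have h := Brauer.principal_column_eq_zero hM hv (Subgroup.centralizer ({v} : Set G)) rfl 1
    (by rw [orderOf_one]; exact hM.1.not_dvd_one) hnc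
  rw [finsum_pb] at h
  simpa using h

theorem col_regular' (hM : IsPModular p M) {v ρ : G} {k : ℕ} (hv : orderOf v = p ^ k) (hv1 : v ≠ 1)
    (hρ : ¬ p ∣ orderOf ρ) :
    ∑ χ ∈ pb M G, (χ : G → ℂ) ρ * conj ((χ : G → ℂ) v) = 0 := by
  have h := congrArg conj (col_regular hM hv hv1 hρ)
  simpa [map_sum, mul_comm] using h

/-- Columns of the principal block at `p`-elements. -/
theorem col (hM : IsPModular p M) {v w : G} {k l : ℕ} (hv : orderOf v = p ^ k)
    (hw : orderOf w = p ^ l)
    (hN : HasNormalPComplement p (Subgroup.centralizer ({v} : Set G))) [Decidable (IsConj v w)] :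
    ∑ χ ∈ pb M G, (χ : G → ℂ) v * conj ((χ : G → ℂ) w)
      = if IsConj v w then
        ((ordProj[p] (Nat.card (Subgroup.centralizer ({v} : Set G))) : ℕ) : ℂ) else 0 := by
  classical
  haveI : Fact p.Prime := ⟨hM.1⟩
  set C := Subgroup.centralizer ({v} : Set G) with hC
  haveI := Fintype.ofFinite C
  split_ifs with hvw
  · rw [Finset.sum_congr rfl (fun χ _ => by
      rw [← Char.isClassFunction_eq_of_isConj (Char.irr_isClassFunction χ.2) hvw] :
      ∀ χ ∈ pb M G, (χ : G → ℂ) v * conj ((χ : G → ℂ) w)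
        = (χ : G → ℂ) v * conj ((χ : G → ℂ) v))]
    obtain ⟨Q⟩ : Nonempty (Sylow p C) := inferInstance
    obtain ⟨N, hNn, hNo, -, hidx, -⟩ := exists_split hN Q
    haveI := hNn
    obtain ⟨a, ha⟩ := IsPGroup.iff_card.mp Q.isPGroup'
    have h1 : ¬ p ∣ orderOf (1 : C) := by rw [orderOf_one]; exact hM.1.not_dvd_one
    have h := Brauer.principal_column_section hM hv C hC 1 1 h1 h1
    rw [Brauer.sum_sq_principalBlock_of_complement hM N hNo (hidx.trans ha) N.one_mem N.one_mem,
      finsum_pb] at h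
    simp only [OneMemClass.coe_one, mul_one] at h
    rw [h, ← N.index_mul_card, hidx, ha, Nat.factorization_mul (pow_ne_zero _ hM.1.ne_zero)
      Nat.card_pos.ne', Finsupp.add_apply, hM.1.factorization_pow, Finsupp.single_eq_same,
      Nat.factorization_eq_zero_of_not_dvd hNo, add_zero]
  · have h := Brauer.principal_column_eq_zero hM hv C hC (1 : C) (g := w)
      (by rw [orderOf_one]; exact hM.1.not_dvd_one) (by rwa [(Element.pPart_eq_self hM.1 hw).1])
    rw [finsum_pb] at h
    simpa using h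

/-- Principal block characters are constant on the sections. -/
theorem value (hM : IsPModular p M) {v y : G} {k : ℕ} (hv : orderOf v = p ^ k)
    (hN : HasNormalPComplement p (Subgroup.centralizer ({v} : Set G)))
    (hy : y ∈ Subgroup.centralizer ({v} : Set G)) (hyo : ¬ p ∣ orderOf y)
    {χ : IrrCharacter G} (hχ : χ ∈ pb M G) :
    (χ : G → ℂ) (v * y) = (χ : G → ℂ) v := by
  classical
  haveI : Fact p.Prime := ⟨hM.1⟩
  set C := Subgroup.centralizer ({v} : Set G) with hC
  obtain ⟨Q⟩ : Nonempty (Sylow p C) := inferInstance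
  obtain ⟨N, hNn, hNo, -, -, hreg⟩ := exists_split hN Q
  haveI := hNn
  refine Brauer.principalBlock_apply_mul hM hv (N.map C.subtype) ?_ ?_ ?_ (mem_pb.mp hχ) ?_
  · rintro _ ⟨z, -, rfl⟩; exact z.2
  · rintro c hc _ ⟨z, hz, rfl⟩
    exact ⟨⟨c, hc⟩ * z * ⟨c, hc⟩⁻¹, hNn.conj_mem _ hz _, rfl⟩
  · rwa [Subgroup.card_map_of_injective C.subtype_injective]
  · exact ⟨⟨y, hy⟩, hreg _ (by rwa [← Subgroup.orderOf_coe]), rfl⟩

/-- A nontrivial member of the principal block does not vanish at all nontrivial `p`-elements. -/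
theorem exists_ne_zero (hM : IsPModular p M)
    (hN : ∀ v : G, ∀ k : ℕ, orderOf v = p ^ k → v ≠ 1 →
      HasNormalPComplement p (Subgroup.centralizer ({v} : Set G)))
    {χ : IrrCharacter G} (hχ : χ ∈ pb M G) (hχT : χ ≠ Char.trivialIrr G) :
    ∃ v : G, ∃ k : ℕ, orderOf v = p ^ k ∧ v ≠ 1 ∧ (χ : G → ℂ) v ≠ 0 := by
  classical
  haveI : M.IsPrime := hM.2.1.isPrime
  by_contra hcon
  push Not at hcon
  have hvan : ∀ g : G, p ∣ orderOf g → (χ : G → ℂ) g = 0 := by
    intro g hg
    have hk := Element.orderOf_pPart_eq_pow hM.1 g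
    have hc := Element.coprime_orderOf_pComplPart hM.1 g
    have h1 : Element.pPart p g ≠ 1 := fun h => by
      have h2 : g = Element.pComplPart p g := by
        conv_lhs => rw [← Element.pPart_mul_pComplPart p g, h, one_mul]
      rw [← h2] at hc
      exact (hM.1.coprime_iff_not_dvd.mp (Nat.coprime_comm.mp hc)) hg
    rw [← Element.pPart_mul_pComplPart p g, value hM hk (hN _ _ hk h1)
      (Subgroup.mem_centralizer_singleton_iff.mpr (Element.commute_pPart_pComplPart p g).symm.eq)
      (hM.1.coprime_iff_not_dvd.mp (Nat.coprime_comm.mp hc)) hχ]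
    exact hcon _ _ hk h1
  have hsum : Brauer.regSum p (χ : G → ℂ) (fun _ => 1) = 0 := by
    have h1 : ∑ x : G, (χ : G → ℂ) x * conj (((Char.trivialIrr G : IrrCharacter G) : G → ℂ) x) = 0 := by
      rw [Char.sum_mul_conj_eq_card_mul_classInner, Char.classInner_irr_ne χ.2
        (Char.trivialIrr G).2 (fun h => hχT (Subtype.ext h)), mul_zero]
    rw [Brauer.regSum, Finset.sum_filter_of_ne]
    · exact h1
    · intro x _ hx hdvd; rw [hvan x hdvd, zero_mul] at hx; exact hx rfl
  have h := (Brauer.mem_principalBlock_iff_regSum hM χ).mp (mem_pb.mp hχ)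
  rw [hsum, zero_div] at h
  exact h Cfsg.Agent.Block.memLocalIdeal_zero

/-! ### Sums over a coset of the complement of a centralizer -/

open scoped Classical in
theorem sum_isConj_centralizer (x : G) (X : Finset G) :
    ∑ x' ∈ X, (if IsConj x x' then (Nat.card (Subgroup.centralizer ({x} : Set G)) : ℂ) else 0)
      = (Nat.card {g : G // g * x * g⁻¹ ∈ X} : ℂ) := by
  rw [Nat.card_eq_fintype_card (α := {g : G // g * x * g⁻¹ ∈ X}), Fintype.card_subtype,
    Finset.card_eq_sum_card_fiberwise (s := Finset.univ.filter fun g : G => g * x * g⁻¹ ∈ X)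
      (f := fun g : G => g * x * g⁻¹) (t := X)
      (fun g hg => (Finset.mem_filter.mp (Finset.mem_coe.mp hg)).2), Nat.cast_sum]
  refine Finset.sum_congr rfl fun x' hx' => ?_
  split_ifs with h
  · obtain ⟨a, ha⟩ := isConj_iff.mp h
    rw [Nat.card_eq_fintype_card, Fintype.card_subtype, Nat.cast_inj]
    refine Finset.card_equiv (Equiv.mulLeft a) fun g => ?_
    simp only [Finset.mem_filter, Finset.mem_univ, true_and, Equiv.coe_mulLeft,
      Subgroup.mem_centralizer_singleton_iff]
    constructor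
    · intro hg
      have : a * g * x * (a * g)⁻¹ = a * x * a⁻¹ := by
        calc a * g * x * (a * g)⁻¹ = a * (g * x) * g⁻¹ * a⁻¹ := by group
          _ = a * x * a⁻¹ := by rw [hg]; group
      rw [this, ha]
      exact ⟨hx', rfl⟩
    · rintro ⟨-, hg⟩
      rw [← ha] at hg
      calc g * x = a⁻¹ * (a * g * x * (a * g)⁻¹) * a * g := by group
        _ = x * g := by rw [hg]; group
  · rw [eq_comm, Nat.cast_eq_zero, Finset.card_eq_zero, Finset.filter_eq_empty_iff]
    intro g _ hg
    exact h (isConj_iff.mpr ⟨g, hg⟩)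

variable {J : G} {C : Subgroup G}

/-- The coset `v * N` as a finite subset of `G`. -/
noncomputable def cosetSet (N : Subgroup C) (v : C) : Finset G :=
  (Set.toFinite ((fun y : N => ((v * y : C) : G)) '' Set.univ)).toFinset

theorem mem_cosetSet {N : Subgroup C} {v : C} {x : G} :
    x ∈ cosetSet N v ↔ ∃ y ∈ N, ((v * y : C) : G) = x := by
  simp [cosetSet]

theorem sum_cosetSet {β : Type*} [AddCommMonoid β] (N : Subgroup C) [Fintype N] (v : C)
    (f : G → β) : ∑ x ∈ cosetSet N v, f x = ∑ y : N, f ((v * y : C) : G) := by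
  classical
  symm
  refine Finset.sum_bij (fun y _ => ((v * y : C) : G)) ?_ ?_ ?_ (fun _ _ => rfl)
  · exact fun y _ => mem_cosetSet.mpr ⟨y, y.2, rfl⟩
  · exact fun a _ b _ h => Subtype.ext (mul_left_cancel (Subtype.ext h : v * (a : C) = v * b))
  · intro x hx
    obtain ⟨y, hy, h⟩ := mem_cosetSet.mp hx
    exact ⟨⟨y, hy⟩, Finset.mem_univ _, h⟩

theorem card_cosetSet (N : Subgroup C) [Fintype N] (v : C) :
    (cosetSet N v).card = Nat.card N := by
  classical
  rw [Finset.card_eq_sum_ones, sum_cosetSet (β := ℕ) N v (fun _ => 1), Finset.sum_const, Finset.card_univ,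
    Nat.card_eq_fintype_card, smul_eq_mul, mul_one]

variable [Fact p.Prime] {Q : Sylow p C} {N : Subgroup C} [hN : N.Normal]

/-- The `p`-part of an element of `v N` is conjugate to `v` under `N`. -/
theorem cosetSet_pPart (hc : (Q : Subgroup C).IsComplement' N) (hNo : ¬ p ∣ Nat.card N) {v : C}
    (hv : v ∈ (Q : Subgroup C)) {y : C} (hy : y ∈ N) :
    ∃ n ∈ N, n * Element.pPart p (v * y) * n⁻¹ = v := by
  have hp : p.Prime := Fact.out
  refine exists_conj_eq hc hv (Element.orderOf_pPart_eq_pow hp (v * y)) ?_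
  have hz : Element.pComplPart p (v * y) ∈ N := by
    obtain ⟨k, hk⟩ := IsPGroup.iff_card.mp Q.isPGroup'
    refine Element.mem_of_coprime_index ?_
    rw [hc.index_eq_card, hk]
    exact (Element.coprime_orderOf_pComplPart hp _).pow_right _
  have e : Element.pPart p (v * y) = v * y * (Element.pComplPart p (v * y))⁻¹ :=
    eq_mul_inv_iff_mul_eq.mpr (Element.pPart_mul_pComplPart p _)
  rw [e, mul_assoc v]
  exact hN.conj_mem _ (mul_mem hy (inv_mem hz)) v

theorem block_value_coset (hM : IsPModular p M) (hC : C = Subgroup.centralizer ({J} : Set G))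
    (hc : (Q : Subgroup C).IsComplement' N) (hNo : ¬ p ∣ Nat.card N) {v : C}
    (hv : v ∈ (Q : Subgroup C))
    (hNv : HasNormalPComplement p (Subgroup.centralizer ({(v : G)} : Set G)))
    {χ : IrrCharacter G} (hχ : χ ∈ pb M G) {x : G} (hx : x ∈ cosetSet N v) :
    (χ : G → ℂ) x = (χ : G → ℂ) (v : G) := by
  obtain ⟨y, hy, rfl⟩ := mem_cosetSet.mp hx
  obtain ⟨n, hn, hnw⟩ := cosetSet_pPart hc hNo hv hy
  obtain ⟨k, hk⟩ := Element.orderOf_eq_pow_of_mem_isPGroup Q.isPGroup' hv
  have hwy := Element.pPart_mul_pComplPart p (v * y)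
  have e : n * (v * y) * n⁻¹ = v * (n * Element.pComplPart p (v * y) * n⁻¹) := by
    conv_lhs => rw [← hwy]
    conv_rhs => arg 1; rw [← hnw]
    group
  have hcm : Commute v (n * Element.pComplPart p (v * y) * n⁻¹) := by
    have := (Element.commute_pPart_pComplPart p (v * y)).map (MulAut.conj n).toMonoidHom
    rwa [show (MulAut.conj n).toMonoidHom (Element.pPart p (v * y)) = v from hnw] at this
  rw [← Char.irr_isClassFunction χ.2 ((v * y : C) : G) (n : G),
    show (n : G) * ((v * y : C) : G) * (n : G)⁻¹ = ((n * (v * y) * n⁻¹ : C) : G) by simp, e,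
    Subgroup.coe_mul]
  refine value hM (by rwa [Subgroup.orderOf_coe]) hNv
    (Subgroup.mem_centralizer_singleton_iff.mpr (congrArg Subtype.val hcm.symm.eq)) ?_ hχ
  rw [Subgroup.orderOf_coe,
    show orderOf (n * Element.pComplPart p (v * y) * n⁻¹) = orderOf (Element.pComplPart p (v * y))
      from orderOf_injective (MulAut.conj n).toMonoidHom (MulAut.conj n).injective _]
  exact (Fact.out : p.Prime).coprime_iff_not_dvd.mp
    (Nat.coprime_comm.mp (Element.coprime_orderOf_pComplPart Fact.out _))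

theorem centralizer_le_of_pow (hC : C = Subgroup.centralizer ({J} : Set G)) {v : C} {m : ℕ}
    (hm : (v : G) ^ m = J) : Subgroup.centralizer ({(v : G)} : Set G) ≤ C := by
  intro g hg
  rw [hC, Subgroup.mem_centralizer_singleton_iff, ← hm]
  exact ((show Commute g (v : G) from Subgroup.mem_centralizer_singleton_iff.mp hg).pow_right m).eq

theorem card_centralizer_eq (hC : C = Subgroup.centralizer ({J} : Set G)) {v : C} {m : ℕ}
    (hm : (v : G) ^ m = J) :
    Nat.card (Subgroup.centralizer ({(v : G)} : Set G))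
      = Nat.card (Subgroup.centralizer ({v} : Set C)) :=
  Nat.card_congr
    { toFun := fun w => ⟨⟨w.1, centralizer_le_of_pow hC hm w.2⟩,
        Subgroup.mem_centralizer_singleton_iff.mpr
          (Subtype.ext (Subgroup.mem_centralizer_singleton_iff.mp w.2))⟩
      invFun := fun w => ⟨w.1.1, Subgroup.mem_centralizer_singleton_iff.mpr
        (congrArg Subtype.val (Subgroup.mem_centralizer_singleton_iff.mp w.2))⟩
      left_inv := fun w => rfl
      right_inv := fun w => rfl }

theorem ordProj_eq (hC : C = Subgroup.centralizer ({J} : Set G))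
    (hc : (Q : Subgroup C).IsComplement' N) (hNo : ¬ p ∣ Nat.card N) {v : C}
    (hv : v ∈ (Q : Subgroup C)) {m : ℕ} (hm : (v : G) ^ m = J) :
    ordProj[p] (Nat.card (Subgroup.centralizer ({(v : G)} : Set G)))
      = Nat.card {q : (Q : Subgroup C) // (q : C) * v = v * q} := by
  rw [card_centralizer_eq hC hm, ordProj_centralizer hc hNo hv]

theorem card_conj_into_coset (hC : C = Subgroup.centralizer ({J} : Set G))
    (hc : (Q : Subgroup C).IsComplement' N) (hNo : ¬ p ∣ Nat.card N) {v : C}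
    (hv : v ∈ (Q : Subgroup C)) {m : ℕ} (hm : (v : G) ^ m = J) {x : G}
    (hx : x ∈ cosetSet N v) :
    Nat.card {g : G // g * x * g⁻¹ ∈ cosetSet N v}
      = Nat.card {q : (Q : Subgroup C) // (q : C) * v = v * q} * Nat.card N := by
  have hp : p.Prime := Fact.out
  obtain ⟨y, hy, rfl⟩ := mem_cosetSet.mp hx
  rw [← card_commutator_mem hc hv]
  have hJ : ∀ y ∈ N, Element.pPart p ((v * y : C) : G) ^ m = J := by
    intro y hy
    obtain ⟨n, hn, hnw⟩ := cosetSet_pPart hc hNo hv hy
    rw [← show C.subtype (v * y) = ((v * y : C) : G) from rfl, ← (Element.map_pPart hp C.subtype _).1]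
    show ((Element.pPart p (v * y) : C) : G) ^ m = J
    have e : (n : G) * ((Element.pPart p (v * y) : C) : G) ^ m * (n : G)⁻¹ = J := by
      rw [← conj_pow, ← hm]; exact congrArg (· ^ m) (congrArg Subtype.val hnw)
    have hnJ : (n : G) * J = J * (n : G) :=
      Subgroup.mem_centralizer_singleton_iff.mp (hC ▸ n.2)
    calc ((Element.pPart p (v * y) : C) : G) ^ m = (n : G)⁻¹ * J * (n : G) := by rw [← e]; group
      _ = J := by rw [mul_assoc, ← hnJ, inv_mul_cancel_left]
  have key : ∀ g : G, g * ((v * y : C) : G) * g⁻¹ ∈ cosetSet N v →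
      ∃ h : g ∈ C, (⟨g, h⟩ : C) * v * (⟨g, h⟩ : C)⁻¹ * v⁻¹ ∈ N := by
    intro g hg
    obtain ⟨z, hz, hgz⟩ := mem_cosetSet.mp hg
    have hgC : g ∈ C := by
      rw [hC, Subgroup.mem_centralizer_singleton_iff]
      have h1 : g * Element.pPart p ((v * y : C) : G) ^ m * g⁻¹ = J := by
        rw [← conj_pow, ← (Element.pPart_conj hp g _).1, ← hgz, hJ z hz]
      rw [hJ y hy] at h1
      exact mul_inv_eq_iff_eq_mul.mp h1
    refine ⟨hgC, ?_⟩
    set g' : C := ⟨g, hgC⟩
    have e : v * z = g' * (v * y) * g'⁻¹ := Subtype.ext hgz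
    have e2 : g' * v * g'⁻¹ * v⁻¹ = v * (z * (g' * y⁻¹ * g'⁻¹)) * v⁻¹ := by
      rw [← mul_assoc v z, e]; group
    rw [e2]
    exact hN.conj_mem _ (mul_mem hz (hN.conj_mem _ (inv_mem hy) g')) v
  refine Nat.card_congr
    { toFun := fun g => ⟨⟨g.1, (key g.1 g.2).1⟩, (key g.1 g.2).2⟩
      invFun := fun c => ⟨(c.1 : G), mem_cosetSet.mpr
        ⟨v⁻¹ * (c.1 * (v * y) * c.1⁻¹), ?_, ?_⟩⟩
      left_inv := fun g => rfl
      right_inv := fun c => rfl }
  · rw [show v⁻¹ * (c.1 * (v * y) * c.1⁻¹)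
      = v⁻¹ * (c.1 * v * c.1⁻¹ * v⁻¹) * v * (c.1 * y * c.1⁻¹) by group]
    refine mul_mem ?_ (hN.conj_mem _ hy _)
    simpa using hN.conj_mem _ c.2 v⁻¹
  · rw [mul_inv_cancel_left]; simp

/-- Outside the principal block, coset sums vanish. -/
theorem coset_sum_eq_zero (hM : IsPModular p M) (hC : C = Subgroup.centralizer ({J} : Set G))
    (hc : (Q : Subgroup C).IsComplement' N) (hNo : ¬ p ∣ Nat.card N) {v : C}
    (hv : v ∈ (Q : Subgroup C)) {m : ℕ} (hm : (v : G) ^ m = J)
    (hNv : HasNormalPComplement p (Subgroup.centralizer ({(v : G)} : Set G)))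
    {χ : IrrCharacter G} (hχ : χ ∉ pb M G) :
    ∑ x ∈ cosetSet N v, (χ : G → ℂ) x = 0 := by
  classical
  haveI := Fintype.ofFinite N
  set X := cosetSet N v with hX
  set k := Nat.card {q : (Q : Subgroup C) // (q : C) * v = v * q} with hk
  obtain ⟨a, ha⟩ := Element.orderOf_eq_pow_of_mem_isPGroup Q.isPGroup' hv
  have hva : orderOf (v : G) = p ^ a := by rwa [Subgroup.orderOf_coe]
  set S : IrrCharacter G → ℂ := fun ψ => ∑ x ∈ X, (ψ : G → ℂ) x with hS
  have hall : ∑ ψ : IrrCharacter G, S ψ * conj (S ψ) = ((Nat.card N : ℂ) ^ 2 * k) := by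
    simp only [hS, map_sum, Finset.sum_mul_sum]
    rw [Finset.sum_comm]
    simp only [Finset.sum_comm (s := (Finset.univ : Finset (IrrCharacter G))), Char.sum_irr_mul_conj]
    refine (Finset.sum_congr rfl (g := fun _ => ((k * Nat.card N : ℕ) : ℂ)) fun x hx => ?_).trans ?_
    · refine Eq.trans ?_ ((sum_isConj_centralizer x X).trans
        (by rw [hX, card_conj_into_coset hC hc hNo hv hm hx]))
      exact Finset.sum_congr rfl fun _ _ => by congr
    rw [Finset.sum_const, hX, card_cosetSet, nsmul_eq_mul]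
    push_cast
    ring
  have hblock : ∑ ψ ∈ pb M G, S ψ * conj (S ψ) = ((Nat.card N : ℂ) ^ 2 * k) := by
    have hval : ∀ ψ ∈ pb M G, S ψ = (Nat.card N : ℂ) * (ψ : G → ℂ) (v : G) := by
      intro ψ hψ
      simp only [hS]
      rw [Finset.sum_congr rfl fun x hx => block_value_coset hM hC hc hNo hv hNv hψ hx,
        Finset.sum_const, card_cosetSet, nsmul_eq_mul]
    have h2 := col hM hva hva hNv
    rw [if_pos (IsConj.refl _), ordProj_eq hC hc hNo hv hm] at h2
    rw [← h2, Finset.mul_sum]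
    refine Finset.sum_congr rfl fun ψ hψ => ?_
    rw [hval ψ hψ, map_mul, map_natCast]
    ring
  have hrest : ∑ ψ ∈ (pb M G)ᶜ, S ψ * conj (S ψ) = 0 := by
    have := Finset.sum_compl_add_sum (pb M G) (fun ψ => S ψ * conj (S ψ))
    rw [hall, hblock] at this
    simpa using this
  have hs : ∑ ψ ∈ (pb M G)ᶜ, Complex.normSq (S ψ) = 0 := by
    simp only [Complex.mul_conj] at hrest
    exact_mod_cast hrest
  exact Complex.normSq_eq_zero.mp
    ((Finset.sum_eq_zero_iff_of_nonneg fun ψ _ => Complex.normSq_nonneg _).mp hs χ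
      (Finset.mem_compl.mpr hχ))

end Cfsg.Agent.DihBlock
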