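import Cfsg.Agent.BlocksChar.ClassProd
import Cfsg.Agent.DihBlock.Sections

/-!
# Pairs of involutions with product in a prescribed coset
-/

set_option autoImplicit false
set_option linter.unusedSectionVars false
set_option linter.style.haveILetI false

open scoped ComplexConjugate
open Cfsg

namespace Cfsg.Agent.DihBlock

universe u

variable {G : Type u} [Group G] [Fintype G]

/-- Class products through characters, averaged over a finite set. -/
theorem card_pairs_eq_sum (J : G) (X : Finset G) :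
    (Nat.card {ab : G × G // ab.1 * J * ab.1⁻¹ * (ab.2 * J * ab.2⁻¹) ∈ X} : ℂ)
      = (Nat.card G : ℂ) * ∑ χ : IrrCharacter G,
          conj (∑ x ∈ X, (χ : G → ℂ) x) * (χ : G → ℂ) J ^ 2 / (χ : G → ℂ) 1 := by
  classical
  have hΦ : ∀ g : G, (Nat.card {h : G // h * g * h⁻¹ ∈ X} : ℂ)
      = ∑ χ : IrrCharacter G, conj (∑ x ∈ X, (χ : G → ℂ) x) * (χ : G → ℂ) g := by
    intro g
    rw [← sum_isConj_centralizer]
    simp only [map_sum, Finset.sum_mul]
    rw [Finset.sum_comm]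
    refine Finset.sum_congr rfl fun x _ => ?_
    rw [Finset.sum_congr rfl (g := fun χ : IrrCharacter G => (χ : G → ℂ) g * conj ((χ : G → ℂ) x))
      (fun χ _ => mul_comm _ _), Char.sum_irr_mul_conj]
    congr
  have h1 : (Nat.card G : ℂ) *
      (Nat.card {ab : G × G // ab.1 * J * ab.1⁻¹ * (ab.2 * J * ab.2⁻¹) ∈ X} : ℂ)
      = ∑ a : G, ∑ b : G, (Nat.card {h : G // h * (a * J * a⁻¹ * (b * J * b⁻¹)) * h⁻¹ ∈ X} : ℂ) := by
    have hb : Nat.card G *
        Nat.card {ab : G × G // ab.1 * J * ab.1⁻¹ * (ab.2 * J * ab.2⁻¹) ∈ X}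
        = ∑ a : G, ∑ b : G, Nat.card {h : G // h * (a * J * a⁻¹ * (b * J * b⁻¹)) * h⁻¹ ∈ X} := by
      rw [← Nat.card_prod, ← Fintype.sum_prod_type' (f := fun a b : G =>
        Nat.card {h : G // h * (a * J * a⁻¹ * (b * J * b⁻¹)) * h⁻¹ ∈ X}), ← Nat.card_sigma]
      refine Nat.card_congr
        { toFun := fun x => ⟨(x.1⁻¹ * x.2.1.1, x.1⁻¹ * x.2.1.2), x.1, ?_⟩
          invFun := fun y => (y.2.1, ⟨(y.2.1 * y.1.1, y.2.1 * y.1.2), ?_⟩)
          left_inv := fun x => ?_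
          right_inv := fun y => ?_ }
      · have e : x.1 * (x.1⁻¹ * x.2.1.1 * J * (x.1⁻¹ * x.2.1.1)⁻¹
            * (x.1⁻¹ * x.2.1.2 * J * (x.1⁻¹ * x.2.1.2)⁻¹)) * x.1⁻¹
            = x.2.1.1 * J * x.2.1.1⁻¹ * (x.2.1.2 * J * x.2.1.2⁻¹) := by group
        rw [e]; exact x.2.2
      · have e : y.2.1 * y.1.1 * J * (y.2.1 * y.1.1)⁻¹ * (y.2.1 * y.1.2 * J * (y.2.1 * y.1.2)⁻¹)
            = y.2.1 * (y.1.1 * J * y.1.1⁻¹ * (y.1.2 * J * y.1.2⁻¹)) * y.2.1⁻¹ := by group
        rw [e]; exact y.2.2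
      · obtain ⟨g, ⟨a, b⟩, hab⟩ := x
        simp
      · obtain ⟨⟨a, b⟩, g, hg⟩ := y
        refine Sigma.subtype_ext ?_ rfl
        simp
    exact_mod_cast hb
  have h2 : ∑ a : G, ∑ b : G, (Nat.card {h : G // h * (a * J * a⁻¹ * (b * J * b⁻¹)) * h⁻¹ ∈ X} : ℂ)
      = (Nat.card G : ℂ) * ((Nat.card G : ℂ) * ∑ χ : IrrCharacter G,
          conj (∑ x ∈ X, (χ : G → ℂ) x) * (χ : G → ℂ) J ^ 2 / (χ : G → ℂ) 1) := by
    simp only [hΦ]
    rw [Finset.sum_congr rfl fun a _ => Finset.sum_comm]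
    simp only [← Finset.mul_sum, BlocksChar.sum_conj_mul (Subtype.property _),
      Char.irr_isClassFunction (Subtype.property _) J, Finset.sum_const, Finset.card_univ,
      nsmul_eq_mul, ← Nat.card_eq_fintype_card]
    congr 1
    rw [Finset.mul_sum]
    refine Finset.sum_congr rfl fun χ _ => ?_
    ring
  exact mul_left_cancel₀ Char.card_ne_zero_complex (h1.trans h2)

theorem card_pairs_class (J : G) (X : Finset G) :
    Nat.card {ab : G × G // ab.1 * J * ab.1⁻¹ * (ab.2 * J * ab.2⁻¹) ∈ X}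
      = Nat.card (Subgroup.centralizer ({J} : Set G)) ^ 2
        * Nat.card {st : G × G // IsConj J st.1 ∧ IsConj J st.2 ∧ st.1 * st.2 ∈ X} := by
  classical
  set C := Subgroup.centralizer ({J} : Set G) with hC
  have hex : ∀ s : {s : G // IsConj J s}, ∃ c : G, c * J * c⁻¹ = s := fun s => isConj_iff.mp s.2
  choose c hc using hex
  have hcf : ∀ (s : {s : G // IsConj J s}) (x : C), c s * x * J * (c s * x)⁻¹ = s := by
    intro s x
    rw [mul_assoc (c s), Subgroup.mem_centralizer_singleton_iff.mp x.2, ← mul_assoc, mul_inv_rev,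
      ← mul_assoc, mul_inv_cancel_right, hc]
  rw [sq, mul_comm, ← Nat.card_prod, ← Nat.card_prod]
  refine (Nat.card_eq_of_bijective (fun z =>
    ⟨(c ⟨z.1.1.1, z.1.2.1⟩ * (z.2.1 : G), c ⟨z.1.1.2, z.1.2.2.1⟩ * (z.2.2 : G)), by
      rw [hcf, hcf]; exact z.1.2.2.2⟩) ⟨?_, ?_⟩).symm
  · rintro ⟨⟨⟨s, t⟩, h⟩, x, y⟩ ⟨⟨⟨s', t'⟩, h'⟩, x', y'⟩ e
    have e1 := congrArg (fun z => z.1.1) e
    have e2 := congrArg (fun z => z.1.2) e
    simp only at e1 e2
    have hs : s = s' := by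
      have := congrArg (fun g => g * J * g⁻¹) e1
      simpa only [hcf] using this
    have ht : t = t' := by
      have := congrArg (fun g => g * J * g⁻¹) e2
      simpa only [hcf] using this
    subst hs ht
    rw [Subtype.ext (mul_left_cancel e1), Subtype.ext (mul_left_cancel e2)]
  · rintro ⟨⟨a, b⟩, hab⟩
    have hmem : ∀ (a : G), (c ⟨a * J * a⁻¹, isConj_iff.mpr ⟨a, rfl⟩⟩)⁻¹ * a ∈ C := by
      intro a
      rw [hC, Subgroup.mem_centralizer_singleton_iff]
      have h := hc ⟨a * J * a⁻¹, isConj_iff.mpr ⟨a, rfl⟩⟩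
      generalize c ⟨a * J * a⁻¹, isConj_iff.mpr ⟨a, rfl⟩⟩ = d at h
      simp only at h
      calc d⁻¹ * a * J = d⁻¹ * (a * J * a⁻¹) * a := by group
        _ = J * (d⁻¹ * a) := by rw [← h]; group
    exact ⟨(⟨(a * J * a⁻¹, b * J * b⁻¹), isConj_iff.mpr ⟨a, rfl⟩, isConj_iff.mpr ⟨b, rfl⟩, hab⟩,
      ⟨_, hmem a⟩, ⟨_, hmem b⟩), Subtype.ext (Prod.ext (mul_inv_cancel_left _ _)
      (mul_inv_cancel_left _ _))⟩

variable {J : G} {C : Subgroup G} {Q : Sylow 2 C} {N : Subgroup C} [hN : N.Normal]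
  {M : Ideal AlgInt}

/-- The order equation of a coset `v N` for a single class of involutions. -/
theorem coset_pairs (hM : IsPModular 2 M) (hC : C = Subgroup.centralizer ({J} : Set G))
    (hJ : orderOf J = 2) (hone : ∀ s : G, orderOf s = 2 → IsConj J s)
    (hc : (Q : Subgroup C).IsComplement' N) (hNo : ¬ 2 ∣ Nat.card N) {v : C}
    (hv : v ∈ (Q : Subgroup C)) {m : ℕ} (hm : (v : G) ^ m = J)
    (hNv : HasNormalPComplement 2 (Subgroup.centralizer ({(v : G)} : Set G))) :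
    (Nat.card C : ℂ) ^ 2 *
        (Nat.card {st : C × C // orderOf st.1 = 2 ∧ orderOf st.2 = 2 ∧ v⁻¹ * (st.1 * st.2) ∈ N} : ℂ)
      = (Nat.card G : ℂ) * (Nat.card N : ℂ) * ∑ χ ∈ pb M G,
          conj ((χ : G → ℂ) (v : G)) * (χ : G → ℂ) J ^ 2 / (χ : G → ℂ) 1 := by
  classical
  haveI := Fintype.ofFinite N
  haveI : Fact (Nat.Prime 2) := ⟨Nat.prime_two⟩
  have hsum : ∀ χ : IrrCharacter G, ∑ x ∈ cosetSet N v, (χ : G → ℂ) x
      = if χ ∈ pb M G then (Nat.card N : ℂ) * (χ : G → ℂ) (v : G) else 0 := by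
    intro χ
    split_ifs with h
    · rw [Finset.sum_congr rfl fun x hx => block_value_coset hM hC hc hNo hv hNv h hx,
        Finset.sum_const, card_cosetSet, nsmul_eq_mul]
    · exact coset_sum_eq_zero hM hC hc hNo hv hm hNv h
  have h := card_pairs_eq_sum J (cosetSet N v)
  rw [card_pairs_class, ← hC] at h
  simp only [hsum, apply_ite (starRingEnd ℂ), map_zero, map_mul, map_natCast, ite_mul, zero_mul,
    ite_div, zero_div] at h
  rw [← Finset.sum_filter, show (Finset.univ.filter fun χ : IrrCharacter G => χ ∈ pb M G) = pb M G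
    by ext; simp] at h
  have hcard : Nat.card {st : G × G // IsConj J st.1 ∧ IsConj J st.2 ∧
        st.1 * st.2 ∈ cosetSet N v}
      = Nat.card {st : C × C // orderOf st.1 = 2 ∧ orderOf st.2 = 2 ∧ v⁻¹ * (st.1 * st.2) ∈ N} := by
    have ho : ∀ s : G, IsConj J s → orderOf s = 2 := fun s hs => by
      obtain ⟨a, ha⟩ := isConj_iff.mp hs
      rw [← ha, ← hJ]
      exact orderOf_injective (MulAut.conj a).toMonoidHom (MulAut.conj a).injective J
    have key : ∀ s t : G, IsConj J s → IsConj J t → s * t ∈ cosetSet N v →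
        ∃ (hs : s ∈ C) (ht : t ∈ C), v⁻¹ * ((⟨s, hs⟩ : C) * ⟨t, ht⟩) ∈ N := by
      intro s t hs ht hst
      obtain ⟨y, hy, hg⟩ := mem_cosetSet.mp hst
      obtain ⟨n, hn, hnw⟩ := cosetSet_pPart hc hNo hv hy
      have hs2 : s * s = 1 := by rw [← sq, ← ho s hs, pow_orderOf_eq_one]
      have ht2 : t * t = 1 := by rw [← sq, ← ho t ht, pow_orderOf_eq_one]
      have hsC : s ∈ C := by
        rw [hC, Subgroup.mem_centralizer_singleton_iff]
        set w : C := Element.pPart 2 (v * y) with hw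
        have hwJ : (w : G) ^ m = J := by
          have e : (n : G) * (w : G) ^ m * (n : G)⁻¹ = J := by
            rw [← conj_pow, ← hm]; exact congrArg (· ^ m) (congrArg Subtype.val hnw)
          have hnJ : (n : G) * J = J * (n : G) :=
            Subgroup.mem_centralizer_singleton_iff.mp (hC ▸ n.2)
          calc (w : G) ^ m = (n : G)⁻¹ * J * (n : G) := by rw [← e]; group
            _ = J := by rw [mul_assoc, ← hnJ, inv_mul_cancel_left]
        obtain ⟨k, hk⟩ := Subgroup.mem_zpowers_iff.mp (Element.pPart_mem_zpowers 2 (v * y))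
        have hkG : (s * t) ^ k = (w : G) := by
          rw [← hg]; exact congrArg Subtype.val hk
        have hinv : s * (s * t) * s⁻¹ = (s * t)⁻¹ := by
          rw [mul_inv_rev, ← mul_assoc, hs2, one_mul, inv_eq_of_mul_eq_one_right hs2,
            inv_eq_of_mul_eq_one_right ht2]
        have h3 : s * J * s⁻¹ = J := by
          rw [← hwJ, ← conj_pow, ← hkG, ← conj_zpow, hinv, inv_zpow, hkG, inv_pow, hwJ]
          exact inv_eq_of_mul_eq_one_right (by rw [← sq, ← hJ, pow_orderOf_eq_one])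
        exact mul_inv_eq_iff_eq_mul.mp h3
      have htC : t ∈ C := by
        have := C.mul_mem (C.inv_mem hsC) (v * y).2
        rwa [hg, inv_mul_cancel_left] at this
      refine ⟨hsC, htC, ?_⟩
      rw [show (⟨s, hsC⟩ : C) * ⟨t, htC⟩ = v * y from Subtype.ext hg.symm, inv_mul_cancel_left]
      exact hy
    refine Nat.card_congr
      { toFun := fun z => ⟨(⟨z.1.1, (key _ _ z.2.1 z.2.2.1 z.2.2.2).1⟩,
          ⟨z.1.2, (key _ _ z.2.1 z.2.2.1 z.2.2.2).2.1⟩),
          (by rw [← Subgroup.orderOf_coe]; exact ho _ z.2.1),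
          (by rw [← Subgroup.orderOf_coe]; exact ho _ z.2.2.1),
          (key _ _ z.2.1 z.2.2.1 z.2.2.2).2.2⟩
        invFun := fun z => ⟨((z.1.1 : G), (z.1.2 : G)),
          hone _ (by rw [Subgroup.orderOf_coe]; exact z.2.1),
          hone _ (by rw [Subgroup.orderOf_coe]; exact z.2.2.1),
          mem_cosetSet.mpr ⟨_, z.2.2.2, by simp⟩⟩
        left_inv := fun z => rfl
        right_inv := fun z => rfl }
  rw [hcard] at h
  push_cast at h
  rw [h, mul_assoc, Finset.mul_sum (a := (Nat.card N : ℂ))]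
  congr 1
  exact Finset.sum_congr rfl fun χ _ => by ring

end Cfsg.Agent.DihBlock
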