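import Cfsg.Agent.DihBlock.Setup
import Cfsg.Agent.DihBlock.Pairs

/-!
# The order equations for a single class of involutions
-/

set_option autoImplicit false
set_option linter.unusedSectionVars false
set_option linter.style.haveILetI false

open scoped ComplexConjugate
open Cfsg

namespace Cfsg.Agent.DihBlock

universe u

variable {G : Type u} [Group G] [Fintype G] {P : Sylow 2 G} {σ τ : G} {h : ℕ}

/-- The order of the joint centralizer of the central involution and a reflection. -/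
noncomputable def cJ (σ τ : G) (h i : ℕ) : ℕ :=
  Nat.card (Subgroup.centralizer ({σ ^ h, σ ^ i * τ} : Set G))

theorem cJ_pos (σ τ : G) (h i : ℕ) : 0 < cJ σ τ h i := Nat.card_pos

namespace Dih

variable (D : Dih P σ τ h)
include D

theorem cJ_add_two (i : ℕ) : cJ σ τ h (i + 2) = cJ σ τ h i := by
  have e : σ * (σ ^ i * τ) * σ⁻¹ = σ ^ (i + 2) * τ := by
    have h1 : τ * σ⁻¹ = σ * τ := by
      refine mul_inv_eq_iff_eq_mul.mpr ?_
      have := D.mul_τ 1
      rw [pow_one] at this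
      rw [mul_assoc, this, mul_inv_cancel_left]
    rw [mul_assoc σ, mul_assoc (σ ^ i), h1, pow_add, pow_two, ← mul_assoc, ← mul_assoc,
      (Commute.self_pow σ i).eq]
    simp [mul_assoc]
  have eJ : σ * σ ^ h * σ⁻¹ = σ ^ h := by
    rw [(Commute.self_pow σ h).eq, mul_inv_cancel_right]
  refine Nat.card_congr
    { toFun := fun w => ⟨σ⁻¹ * w.1 * σ, ?_⟩
      invFun := fun w => ⟨σ * w.1 * σ⁻¹, ?_⟩
      left_inv := fun w => Subtype.ext (by group)
      right_inv := fun w => Subtype.ext (by group) }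
  · rw [Subgroup.mem_centralizer_iff]
    intro y hy
    have hw := Subgroup.mem_centralizer_iff.mp w.2
    rcases hy with rfl | rfl
    · have h1 := hw (σ ^ h) (Or.inl rfl)
      calc σ ^ h * (σ⁻¹ * w.1 * σ) = σ⁻¹ * ((σ * σ ^ h * σ⁻¹) * w.1) * σ := by group
        _ = σ⁻¹ * (w.1 * (σ * σ ^ h * σ⁻¹)) * σ := by rw [eJ, h1]
        _ = σ⁻¹ * w.1 * σ * σ ^ h := by group
    · have h1 := hw (σ ^ (i + 2) * τ) (Or.inr rfl)
      calc σ ^ i * τ * (σ⁻¹ * w.1 * σ) = σ⁻¹ * ((σ * (σ ^ i * τ) * σ⁻¹) * w.1) * σ := by group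
        _ = σ⁻¹ * (w.1 * (σ * (σ ^ i * τ) * σ⁻¹)) * σ := by rw [e, h1]
        _ = σ⁻¹ * w.1 * σ * (σ ^ i * τ) := by group
  · rw [Subgroup.mem_centralizer_iff]
    intro y hy
    have hw := Subgroup.mem_centralizer_iff.mp w.2
    rcases hy with rfl | rfl
    · have h1 := hw (σ ^ h) (Or.inl rfl)
      calc σ ^ h * (σ * w.1 * σ⁻¹) = (σ * σ ^ h * σ⁻¹) * (σ * w.1 * σ⁻¹) := by rw [eJ]
        _ = σ * (σ ^ h * w.1) * σ⁻¹ := by group
        _ = σ * (w.1 * σ ^ h) * σ⁻¹ := by rw [h1]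
        _ = σ * w.1 * σ⁻¹ * (σ * σ ^ h * σ⁻¹) := by group
        _ = σ * w.1 * σ⁻¹ * σ ^ h := by rw [eJ]
    · have h1 := hw (σ ^ i * τ) (Or.inr rfl)
      rw [← e]
      calc σ * (σ ^ i * τ) * σ⁻¹ * (σ * w.1 * σ⁻¹) = σ * (σ ^ i * τ * w.1) * σ⁻¹ := by group
        _ = σ * (w.1 * (σ ^ i * τ)) * σ⁻¹ := by rw [h1]
        _ = σ * w.1 * σ⁻¹ * (σ * (σ ^ i * τ) * σ⁻¹) := by group

/-- The order equation of the rotation `σ ^ l`. -/
theorem order_equation {M : Ideal AlgInt} (hM : IsPModular 2 M)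
    (hone : ∀ s : G, orderOf s = 2 → IsConj (σ ^ h) s) {l : ℕ} (hl0 : 0 < l) (hl : l < 2 * h) :
    (Nat.card G : ℂ) * (∑ χ ∈ pb M G,
        conj ((χ : G → ℂ) (σ ^ l)) * (χ : G → ℂ) (σ ^ h) ^ 2 / (χ : G → ℂ) 1)
      = 4 * (Nat.card (Subgroup.centralizer ({σ ^ h} : Set G)) : ℂ) ^ 3 / h *
        ∑ i ∈ Finset.range (2 * h), (1 : ℂ) / (cJ σ τ h i * cJ σ τ h (i + (2 * h - l))) := by
  classical
  haveI : Fact (Nat.Prime 2) := ⟨Nat.prime_two⟩
  have hpos := D.h_pos
  set C := Subgroup.centralizer ({σ ^ h} : Set G) with hC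
  obtain ⟨Q, N, hN, hNo, hcompl, hcard, hmem⟩ :
      ∃ (Q : Sylow 2 C) (N : Subgroup C), N.Normal ∧ ¬ 2 ∣ Nat.card N ∧
        (Q : Subgroup C).IsComplement' N ∧ 4 * h * Nat.card N = Nat.card C ∧
        ∀ c, c ∈ (Q : Subgroup C) ↔ (c : G) ∈ (P : Subgroup G) := D.exists_local
  haveI := hN
  haveI := Fintype.ofFinite (Q : Subgroup C)
  have hl1 : σ ^ l ≠ 1 := fun e => by
    have := Nat.le_of_dvd hl0 ((D.pow_eq_one_iff l).mp e); omega
  obtain ⟨m, hm⟩ := D.exists_pow_J hl1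
  let v : C := ⟨σ ^ l, D.P_le_centralizer (pow_mem D.mem_σ l)⟩
  have hvQ : v ∈ (Q : Subgroup C) := (hmem v).mpr (pow_mem D.mem_σ l)
  have hE := coset_pairs hM hC D.orderOf_J hone hcompl hNo hvQ (m := m) hm
    (D.hasComplement_mem (pow_mem D.mem_σ l) hl1)
  set I : C → ℕ := fun q => Nat.card {s : C // orderOf s = 2 ∧ s * q⁻¹ ∈ N} with hI
  -- the number of pairs
  have hproj : ∀ s : C, ∃ q : (Q : Subgroup C), s * (q : C)⁻¹ ∈ N := fun s => by
    obtain ⟨⟨q, n⟩, hqn, -⟩ := hcompl.existsUnique s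
    simp only at hqn
    exact ⟨q, by rw [← hqn]; exact hN.conj_mem _ n.2 (q : C)⟩
  choose π hπ using hproj
  have hπu : ∀ (s : C) (q : (Q : Subgroup C)), s * (q : C)⁻¹ ∈ N → π s = q := by
    intro s q hq
    refine Subtype.ext (eq_of_div_mem hcompl (π s).2 q.2 ?_)
    have := mul_mem (inv_mem (hπ s)) hq
    rwa [mul_inv_rev, inv_inv, mul_assoc, inv_mul_cancel_left] at this
  have hpairs : Nat.card {st : C × C // orderOf st.1 = 2 ∧ orderOf st.2 = 2 ∧
      v⁻¹ * (st.1 * st.2) ∈ N} = ∑ q : (Q : Subgroup C), I (q : C) * I ((q : C)⁻¹ * v) := by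
    simp only [hI, ← Nat.card_prod]
    rw [← Nat.card_sigma]
    refine Nat.card_congr
      { toFun := fun z => ⟨π z.1.1, ⟨z.1.1, z.2.1, hπ _⟩, ⟨z.1.2, z.2.2.1, ?_⟩⟩
        invFun := fun y => ⟨(y.2.1.1, y.2.2.1), y.2.1.2.1, y.2.2.2.1, ?_⟩
        left_inv := fun z => rfl
        right_inv := fun y => ?_ }
    · have h1 := (hN.mem_comm_iff).mp z.2.2.2
      have h2 := mul_mem (inv_mem (hπ z.1.1)) h1
      rw [mul_inv_rev, inv_inv] at *
      have h3 : (π z.1.1 : C) * z.1.1⁻¹ * (z.1.1 * z.1.2 * v⁻¹)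
          = (π z.1.1 : C) * (z.1.2 * v⁻¹) := by group
      rw [h3] at h2
      rw [← mul_assoc]
      exact hN.mem_comm_iff.mp h2
    · obtain ⟨q, ⟨s, hs1, hs2⟩, ⟨t, ht1, ht2⟩⟩ := y
      rw [mul_inv_rev, inv_inv, ← mul_assoc] at ht2
      have h2 := mul_mem hs2 (hN.mem_comm_iff.mp ht2)
      refine hN.mem_comm_iff.mpr ?_
      have h3 : s * (q : C)⁻¹ * ((q : C) * (t * v⁻¹)) = s * t * v⁻¹ := by group
      rwa [h3] at h2
    · obtain ⟨q, ⟨s, hs1, hs2⟩, ⟨t, ht1, ht2⟩⟩ := y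
      obtain rfl := (hπu s q hs2).symm
      rfl
  have hI0 : ∀ q : C, q ∈ (Q : Subgroup C) → orderOf q ≠ 2 → I q = 0 := by
    intro q hq ho
    simp only [hI, Nat.card_eq_zero]
    refine Or.inl ⟨?_⟩
    rintro ⟨s, hs1, hs2⟩
    refine ho (orderOf_eq_prime (eq_of_div_mem hcompl (pow_mem hq 2) (one_mem _) ?_) fun e => ?_)
    · rw [inv_one, mul_one, ← QuotientGroup.eq_one_iff, QuotientGroup.mk_pow]
      have : (q : C ⧸ N) = (s : C ⧸ N) := by
        rw [eq_comm, ← div_eq_one, ← QuotientGroup.mk_div, div_eq_mul_inv, QuotientGroup.eq_one_iff]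
        exact hs2
      rw [this, ← QuotientGroup.mk_pow, ← hs1, pow_orderOf_eq_one, QuotientGroup.mk_one]
    · rw [e, inv_one, mul_one] at hs2
      exact hNo (hs1 ▸ N.orderOf_dvd_natCard hs2)
  let r : ℕ → C := fun i => ⟨σ ^ i * τ, D.P_le_centralizer (D.refl_mem i)⟩
  have hrQ : ∀ i, r i ∈ (Q : Subgroup C) := fun i => (hmem _).mpr (D.refl_mem i)
  have hro : ∀ i, orderOf (r i) = 2 ^ 1 := fun i => by
    rw [pow_one, ← Subgroup.orderOf_coe]; exact D.orderOf_refl i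
  have hIr : ∀ i, (I (r i) : ℂ) = 4 * (Nat.card N : ℂ) / (cJ σ τ h i : ℂ) := by
    intro i
    rw [eq_div_iff (Nat.cast_ne_zero.mpr (cJ_pos σ τ h i).ne')]
    have h1 := card_coset_conj hcompl (hrQ i) (hro i)
    have h2 := card_centralizer_split hcompl (hrQ i)
    have h3 : Nat.card {q : (Q : Subgroup C) // (q : C) * r i = r i * q} = 4 := by
      rw [← D.cardComm_refl i, cardComm]
      exact Nat.card_congr
        { toFun := fun q => ⟨⟨((q.1 : C) : G), (hmem _).mp q.1.2⟩, congrArg Subtype.val q.2⟩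
          invFun := fun q => ⟨⟨⟨(q.1 : G), D.P_le_centralizer q.1.2⟩, (hmem _).mpr q.1.2⟩,
            Subtype.ext q.2⟩
          left_inv := fun q => rfl
          right_inv := fun q => rfl }
    have h4 : cJ σ τ h i = Nat.card (Subgroup.centralizer ({r i} : Set C)) := by
      rw [cJ]
      exact Nat.card_congr
        { toFun := fun w => ⟨⟨w.1, Subgroup.mem_centralizer_singleton_iff.mpr
              (Subgroup.mem_centralizer_iff.mp w.2 _ (Or.inl rfl)).symm⟩,
            Subgroup.mem_centralizer_singleton_iff.mpr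
              (Subtype.ext (Subgroup.mem_centralizer_iff.mp w.2 _ (Or.inr rfl)).symm)⟩
          invFun := fun w => ⟨w.1.1, Subgroup.mem_centralizer_iff.mpr (by
            rintro y (rfl | rfl)
            · exact (Subgroup.mem_centralizer_singleton_iff.mp w.1.2).symm
            · exact (congrArg Subtype.val (Subgroup.mem_centralizer_singleton_iff.mp w.2)).symm)⟩
          left_inv := fun w => rfl
          right_inv := fun w => rfl }
    rw [h3] at h2
    rw [h4, h2]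
    push_cast
    simp only [hI]
    rw [← h1]
    push_cast
    ring
  have hsum : ∑ q : (Q : Subgroup C), I (q : C) * I ((q : C)⁻¹ * v)
      = ∑ i ∈ Finset.range (2 * h), I (r i) * I (r (i + (2 * h - l))) := by
    have hinj : Set.InjOn (fun i => (⟨r i, hrQ i⟩ : (Q : Subgroup C)))
        (Finset.range (2 * h) : Finset ℕ) := by
      intro a ha b hb e
      exact D.refl_inj (Finset.mem_range.mp ha) (Finset.mem_range.mp hb)
        (congrArg (fun q : (Q : Subgroup C) => ((q : C) : G)) e)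
    rw [← Finset.sum_subset (Finset.subset_univ
      ((Finset.range (2 * h)).image fun i => (⟨r i, hrQ i⟩ : (Q : Subgroup C)))),
      Finset.sum_image hinj]
    · refine Finset.sum_congr rfl fun i _ => ?_
      congr 2
      refine Subtype.ext ?_
      show (σ ^ i * τ)⁻¹ * σ ^ l = σ ^ (i + (2 * h - l)) * τ
      rw [D.refl_inv, mul_assoc, D.mul_τ, pow_add, mul_assoc]
      congr 1
      congr 1
      exact inv_eq_of_mul_eq_one_right (by rw [← pow_add, Nat.add_sub_cancel' hl.le, D.pow_two_h])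
    · intro q _ hq
      by_contra hne
      obtain ⟨hq1, hq2⟩ := mul_ne_zero_iff.mp hne
      have ho : orderOf (q : C) = 2 := by_contra fun ho => hq1 (hI0 _ q.2 ho)
      rw [← Subgroup.orderOf_coe] at ho
      rcases D.involution_cases ((hmem _).mp q.2) ho with e | ⟨i, hi, e⟩
      · refine hq2 (hI0 _ (mul_mem (inv_mem q.2) hvQ) fun ho' => ?_)
        rw [← Subgroup.orderOf_coe, Subgroup.coe_mul, Subgroup.coe_inv, e, D.J_inv] at ho'
        change orderOf (σ ^ h * σ ^ l) = 2 at ho'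
        rw [← pow_add] at ho'
        have h2 := pow_orderOf_eq_one (σ ^ (h + l))
        rw [ho', pow_two] at h2
        have h3 := D.eq_J_of_sq h2 fun e' => by rw [e', orderOf_one] at ho'; omega
        exact hl1 ((mul_eq_left (a := σ ^ h)).mp (by rw [← pow_add]; exact h3))
      · exact hq (Finset.mem_image.mpr ⟨i, Finset.mem_range.mpr hi, Subtype.ext (Subtype.ext e.symm)⟩)
  rw [hpairs, hsum, Nat.cast_sum] at hE
  simp only [Nat.cast_mul, hIr] at hE
  have hN0 : (Nat.card N : ℂ) ≠ 0 := Nat.cast_ne_zero.mpr Nat.card_pos.ne'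
  have hh0 : (h : ℂ) ≠ 0 := Nat.cast_ne_zero.mpr hpos.ne'
  have hc' : (Nat.card C : ℂ) = 4 * h * Nat.card N := by rw [← hcard]; push_cast; ring
  refine mul_left_cancel₀ hN0 ?_
  refine Eq.trans ?_ (Eq.trans hE.symm ?_)
  · ring
  · rw [Finset.mul_sum, Finset.mul_sum, Finset.mul_sum]
    refine Finset.sum_congr rfl fun i _ => ?_
    have h5 : (cJ σ τ h i : ℂ) ≠ 0 := Nat.cast_ne_zero.mpr (cJ_pos σ τ h i).ne'
    have h6 : (cJ σ τ h (i + (2 * h - l)) : ℂ) ≠ 0 := Nat.cast_ne_zero.mpr (cJ_pos σ τ h _).ne'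
    rw [hc']
    field_simp

end Dih

end Cfsg.Agent.DihBlock
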