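import Cfsg.Agent.DihBlock.Structure
import Cfsg.Agent.DihBlock.Order

/-!
# The order formula for one class of involutions
-/

set_option autoImplicit false
set_option linter.unusedSectionVars false
set_option linter.style.haveILetI false

open scoped ComplexConjugate
open Cfsg

namespace Cfsg.Agent.DihBlock

universe u

theorem sum_range_periodic {R : Type*} [CommSemiring R] (F : ℕ → R) (hF : ∀ i, F (i + 2) = F i)
    (m : ℕ) : ∑ i ∈ Finset.range (2 * m), F i = m * (F 0 + F 1) := by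
  have h2 : ∀ m i, F (i + 2 * m) = F i := by
    intro m
    induction m with
    | zero => simp
    | succ m ih => intro i; rw [show i + 2 * (m + 1) = i + 2 * m + 2 by ring, hF, ih]
  induction m with
  | zero => simp
  | succ m ih =>
    have e0 : F (2 * m) = F 0 := by simpa using h2 m 0
    have e1 : F (2 * m + 1) = F 1 := by simpa [add_comm] using h2 m 1
    rw [show 2 * (m + 1) = 2 * m + 1 + 1 by ring, Finset.sum_range_succ, Finset.sum_range_succ, ih,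
      e0, e1]
    push_cast
    ring

variable {G : Type u} [Group G] [Fintype G] {P : Sylow 2 G} {σ τ : G} {h : ℕ} {M : Ideal AlgInt}

namespace Dih

theorem one_class_equation (D : Dih P σ τ h) (hh : 2 ≤ h) (hM : IsPModular 2 M)
    (hJτ : IsConj (σ ^ h) τ) (hJστ : IsConj (σ ^ h) (σ * τ)) {χ₁ : IrrCharacter G}
    (hχ₁ : χ₁ ∈ pb M G) (h1 : χ₁ ≠ Char.trivialIrr G) {δ₁ : ℤ} (hδ₁ : δ₁ = 1 ∨ δ₁ = -1)
    (hval : ∀ l : ℕ, 0 < l → l < 2 * h → (χ₁ : G → ℂ) (σ ^ l) = δ₁) :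
    (charDegree (χ₁ : G → ℂ) : ℤ) ≠ δ₁ ∧
    (Nat.card G : ℚ) * ((charDegree (χ₁ : G → ℂ) : ℚ) - δ₁) ^ 2
      = 2 * (charDegree (χ₁ : G → ℂ) : ℚ) * ((charDegree (χ₁ : G → ℂ) : ℚ) + δ₁)
        * (Nat.card (Subgroup.centralizer ({σ ^ h} : Set G)) : ℚ) ^ 3
        * (1 / (cJ σ τ h 0 : ℚ) + 1 / (cJ σ τ h 1 : ℚ)) ^ 2 := by
  classical
  haveI : Fact (Nat.Prime 2) := ⟨Nat.prime_two⟩
  haveI : NeZero (2 * h) := ⟨by omega⟩
  have heven : Even h := by
    obtain ⟨a, rfl⟩ := D.pow2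
    rcases a with - | a
    · norm_num at hh
    · exact ⟨2 ^ a, by ring⟩
  have hJh : (-1 : ℂ) ^ h = 1 := heven.neg_one_pow
  -- one class of involutions
  have hone : ∀ s : G, orderOf s = 2 → IsConj (σ ^ h) s := by
    intro s hs
    obtain ⟨T, hT⟩ := (IsPGroup.of_card (p := 2) (G := Subgroup.zpowers s) (n := 1)
      (by rw [Nat.card_zpowers, hs, pow_one])).exists_le_sylow
    obtain ⟨a, ha⟩ := MulAction.exists_smul_eq G T P
    have hsP : a * s * a⁻¹ ∈ (P : Subgroup G) := by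
      rw [← ha, Sylow.coe_subgroup_smul]
      exact ⟨s, hT (Subgroup.mem_zpowers s), rfl⟩
    have ho : orderOf (a * s * a⁻¹) = 2 :=
      (orderOf_injective (MulAut.conj a).toMonoidHom (MulAut.conj a).injective _).trans hs
    refine IsConj.trans ?_ (isConj_iff.mpr ⟨a, rfl⟩ : IsConj s (a * s * a⁻¹)).symm
    rcases D.involution_cases hsP ho with e | ⟨i, -, e⟩
    · rw [e]
    rw [e]
    have hconj : ∀ k j : ℕ, IsConj (σ ^ j * τ) (σ ^ (j + 2 * k) * τ) := by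
      intro k j
      refine isConj_iff.mpr ⟨σ ^ k, ?_⟩
      have e1 : τ * (σ ^ k)⁻¹ = σ ^ k * τ := by
        rw [mul_inv_eq_iff_eq_mul, mul_assoc, D.mul_τ, mul_inv_cancel_left]
      rw [mul_assoc (σ ^ k), mul_assoc (σ ^ j), e1, ← mul_assoc, ← mul_assoc, ← pow_add, ← pow_add]
      congr 2; ring
    obtain ⟨k, rfl | rfl⟩ : ∃ k, i = 0 + 2 * k ∨ i = 1 + 2 * k := ⟨i / 2, by omega⟩
    · exact IsConj.trans (by simpa using hJτ) (hconj k 0)
    · exact IsConj.trans (by simpa using hJστ) (hconj k 1)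
  have hζ := Complex.isPrimitiveRoot_exp (2 * h) (NeZero.ne _)
  set ζ : ℂ := Complex.exp (2 * Real.pi * Complex.I / ((2 * h : ℕ) : ℂ))
  obtain ⟨A, C₂, C₃, χ', α, e₂, e₃, hα, he₂, he₃, hinj, hAT, hC₂T, hC₃T, hAC₂, hAC₃, hC₂₃, hχ', hpb,
    hv, hreg⟩ := D.block_structure hh hM hζ
  have hθh : ∀ m : ℕ, ζ ^ (m * h) + (ζ ^ (m * h))⁻¹ = 2 * (-1) ^ m := by
    intro m
    rw [mul_comm m h, pow_mul, primitiveRoot_pow_half (by omega) hζ]
    rcases neg_one_pow_eq_or ℂ m with e | e <;> rw [e] <;> norm_num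
  -- identify the given character
  obtain ⟨rfl, rfl⟩ : χ₁ = A ∧ δ₁ = α := by
    rcases (hpb χ₁).mp hχ₁ with e | e | e | e | ⟨j, e⟩
    · exact absurd e h1
    · refine ⟨e, ?_⟩
      have := (hv 1 one_pos (by omega)).1
      rw [← e, hval 1 one_pos (by omega)] at this
      exact_mod_cast this
    · exfalso
      have a1 := (hv 1 one_pos (by omega)).2.1
      have a2 := (hv 2 two_pos (by omega)).2.1
      rw [← e, hval 1 one_pos (by omega)] at a1
      rw [← e, hval 2 two_pos (by omega)] at a2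
      rw [a1] at a2
      rcases he₂ with rfl | rfl <;> norm_num at a2
    · exfalso
      have a1 := (hv 1 one_pos (by omega)).2.2.1
      have a2 := (hv 2 two_pos (by omega)).2.2.1
      rw [← e, hval 1 one_pos (by omega)] at a1
      rw [← e, hval 2 two_pos (by omega)] at a2
      rw [a1] at a2
      rcases he₃ with rfl | rfl <;> norm_num at a2
    · exfalso
      have a1 := (hv h (by omega) (by omega)).2.2.2 j
      rw [← e, hval h (by omega) (by omega), hθh] at a1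
      rcases hδ₁ with rfl | rfl <;> rcases hα with rfl | rfl <;>
        rcases neg_one_pow_eq_or ℂ ((j : ℕ) + 1) with q | q <;> rw [q] at a1 <;> norm_num at a1
  set T := Char.trivialIrr G
  have hT1 : ∀ g, (T : G → ℂ) g = 1 := fun _ => rfl
  have hdeg := fun χ : IrrCharacter G => (Char.irr_charDegree_spec χ.2).2
  set x₁ := charDegree (χ₁ : G → ℂ)
  have hx₁ : 0 < x₁ := (Char.irr_charDegree_spec χ₁.2).1
  let j₀ : Fin (h - 1) := ⟨0, by omega⟩
  have hr1 : ∀ j, 1 + (δ₁ : ℂ) * x₁ = -(e₂ : ℂ) * charDegree (C₂ : G → ℂ)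
      - e₃ * charDegree (C₃ : G → ℂ) ∧
      1 + (δ₁ : ℂ) * x₁ = δ₁ * charDegree (χ' j : G → ℂ) := by
    intro j
    have := hreg 1 (by rw [orderOf_one]; norm_num) j
    simpa only [hdeg] using this
  set x := charDegree (χ' j₀ : G → ℂ)
  have hx : 0 < x := (Char.irr_charDegree_spec (χ' j₀).2).1
  have hxj : ∀ j, (χ' j : G → ℂ) 1 = (x : ℂ) := by
    intro j
    rw [hdeg]
    have e := (hr1 j).2.symm.trans (hr1 j₀).2
    rcases hδ₁ with rfl | rfl <;> push_cast at e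
    · linear_combination e
    · linear_combination -e
  have hxx : (δ₁ : ℂ) * x = 1 + δ₁ * x₁ := (hr1 j₀).2.symm
  have hsum : ∀ f : IrrCharacter G → ℂ, ∑ χ ∈ pb M G, f χ
      = f T + (f χ₁ + (f C₂ + (f C₃ + ∑ j, f (χ' j)))) := by
    intro f
    have e : pb M G = insert T (insert χ₁ (insert C₂ (insert C₃ (Finset.univ.image χ')))) := by
      ext χ
      simp [hpb χ, eq_comm]
    rw [e, Finset.sum_insert (by simp [hAT.symm, hC₂T.symm, hC₃T.symm, fun j => (hχ' j).2.2.2]),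
      Finset.sum_insert (by simp [hAC₂, hAC₃, fun j => (hχ' j).1]),
      Finset.sum_insert (by simp [hC₂₃, fun j => (hχ' j).2.1]),
      Finset.sum_insert (by simp [fun j => (hχ' j).2.2.1]),
      Finset.sum_image fun a _ b _ e => hinj e]
  have hreal : ∀ (χ : IrrCharacter G) (l : ℕ),
      conj ((χ : G → ℂ) (σ ^ l)) = (χ : G → ℂ) (σ ^ l) := fun χ l => by
    rw [← Char.irr_inv χ.2, D.chi_inv]
  -- the exceptional characters' sum
  have hXsum : ∀ l, 0 < l → l < 2 * h →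
      ∑ j, (χ' j : G → ℂ) (σ ^ l) = -(δ₁ : ℂ) * (1 + (-1) ^ l) := by
    intro l hl0 hl
    have hne : σ ^ l ≠ 1 := fun e => by
      have := Nat.le_of_dvd hl0 ((D.pow_eq_one_iff l).mp e); omega
    obtain ⟨k, hk⟩ := D.exists_orderOf (pow_mem D.mem_σ l)
    have hc := col_regular hM hk hne (ρ := 1) (by rw [orderOf_one]; norm_num)
    obtain ⟨v1, v2, v3, -⟩ := hv l hl0 hl
    rw [hsum] at hc
    simp only [hT1] at hc
    simp only [v1, v2, v3, hdeg χ₁, hdeg C₂, hdeg C₃, hxj, map_natCast, map_one, one_mul,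
      ← Finset.sum_mul] at hc
    have hr := (hr1 j₀).1
    have hx0 : (x : ℂ) ≠ 0 := Nat.cast_ne_zero.mpr hx.ne'
    refine mul_right_cancel₀ hx0 ?_
    rw [pow_succ] at hc
    linear_combination hc + (-1 : ℂ) ^ l * hr + (1 + (-1 : ℂ) ^ l) * hxx
  set S : ℕ → ℂ := fun l => ∑ χ ∈ pb M G,
    conj ((χ : G → ℂ) (σ ^ l)) * (χ : G → ℂ) (σ ^ h) ^ 2 / (χ : G → ℂ) 1 with hS
  have hsq : ∀ e : ℤ, (e = 1 ∨ e = -1) → (e : ℂ) ^ 2 = 1 := by rintro e (rfl | rfl) <;> norm_num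
  have hSl : ∀ l, 0 < l → l < 2 * h → S l = 1 + (δ₁ : ℂ) / x₁
      + (-1) ^ (l + 1) * ((e₂ : ℂ) / charDegree (C₂ : G → ℂ) + e₃ / charDegree (C₃ : G → ℂ))
      - 4 * δ₁ * (1 + (-1) ^ l) / x := by
    intro l hl0 hl
    obtain ⟨v1, v2, v3, -⟩ := hv l hl0 hl
    obtain ⟨w1, w2, w3, w4⟩ := hv h (by omega) (by omega)
    have hw4 : ∀ j, (χ' j : G → ℂ) (σ ^ h) ^ 2 = 4 := by
      intro j
      rw [w4 j, hθh, mul_pow, mul_pow, hsq _ hδ₁]
      rcases neg_one_pow_eq_or ℂ ((j : ℕ) + 1) with q | q <;> rw [q] <;> norm_num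
    simp only [hS, hreal]
    rw [hsum]
    simp only [hT1]
    simp only [v1, v2, v3, w1, w2, w3, hdeg χ₁, hdeg C₂, hdeg C₃, hxj, hw4, mul_pow,
      pow_succ _ h, hJh, hsq _ hδ₁, hsq _ he₂, hsq _ he₃, ← Finset.sum_div, ← Finset.sum_mul,
      hXsum l hl0 hl]
    ring
  have hper : ∀ off i, (1 : ℂ) / (cJ σ τ h (i + 2) * cJ σ τ h (i + 2 + off))
      = 1 / (cJ σ τ h i * cJ σ τ h (i + off)) := fun off i => by
    rw [D.cJ_add_two, show i + 2 + off = i + off + 2 by ring, D.cJ_add_two]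
  have hcyc : ∀ k i, cJ σ τ h (i + 2 * k) = cJ σ τ h i := by
    intro k
    induction k with
    | zero => simp
    | succ k ih => intro i; rw [show i + 2 * (k + 1) = i + 2 * k + 2 by ring, D.cJ_add_two, ih]
  have q1 := D.order_equation hM hone (l := 1) one_pos (by omega)
  have q2 := D.order_equation hM hone (l := 2) two_pos (by omega)
  rw [sum_range_periodic _ (fun i => hper (2 * h - 1) i)] at q1
  rw [sum_range_periodic _ (fun i => hper (2 * h - 2) i)] at q2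
  have a1 : cJ σ τ h (0 + (2 * h - 1)) = cJ σ τ h 1 := by
    rw [show 0 + (2 * h - 1) = 1 + 2 * (h - 1) by omega, hcyc]
  have a2 : cJ σ τ h (1 + (2 * h - 1)) = cJ σ τ h 0 := by
    rw [show 1 + (2 * h - 1) = 0 + 2 * h by omega, hcyc]
  have a3 : cJ σ τ h (0 + (2 * h - 2)) = cJ σ τ h 0 := by
    rw [show 0 + (2 * h - 2) = 0 + 2 * (h - 1) by omega, hcyc]
  have a4 : cJ σ τ h (1 + (2 * h - 2)) = cJ σ τ h 1 := by
    rw [show 1 + (2 * h - 2) = 1 + 2 * (h - 1) by omega, hcyc]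
  rw [a1, a2] at q1
  rw [a3, a4] at q2
  change (Nat.card G : ℂ) * S 1 = _ at q1
  change (Nat.card G : ℂ) * S 2 = _ at q2
  rw [hSl 1 one_pos (by omega)] at q1
  rw [hSl 2 two_pos (by omega)] at q2
  set c := Nat.card (Subgroup.centralizer ({σ ^ h} : Set G))
  set a := cJ σ τ h 0 with ha
  set b := cJ σ τ h 1 with hb
  have hx₁0 : (x₁ : ℂ) ≠ 0 := Nat.cast_ne_zero.mpr hx₁.ne'
  have hx0 : (x : ℂ) ≠ 0 := Nat.cast_ne_zero.mpr hx.ne'
  have ha0 : (a : ℂ) ≠ 0 := Nat.cast_ne_zero.mpr (cJ_pos σ τ h 0).ne'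
  have hb0 : (b : ℂ) ≠ 0 := Nat.cast_ne_zero.mpr (cJ_pos σ τ h 1).ne'
  have hh0 : (h : ℂ) ≠ 0 := Nat.cast_ne_zero.mpr (by omega)
  have hxe : (x : ℂ) = x₁ + δ₁ := by
    rcases hδ₁ with rfl | rfl <;> push_cast at hxx ⊢
    · linear_combination hxx
    · linear_combination -hxx
  have key : (Nat.card G : ℂ) * ((x₁ : ℂ) - δ₁) ^ 2
      = 2 * (x₁ : ℂ) * ((x₁ : ℂ) + δ₁) * (c : ℂ) ^ 3 * (1 / (a : ℂ) + 1 / (b : ℂ)) ^ 2 := by
    have q := congrArg₂ (· + ·) q1 q2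
    simp only [← mul_add] at q
    have hs : (1 + (δ₁ : ℂ) / x₁
        + (-1) ^ (1 + 1) * ((e₂ : ℂ) / charDegree (C₂ : G → ℂ) + e₃ / charDegree (C₃ : G → ℂ))
        - 4 * δ₁ * (1 + (-1) ^ 1) / x)
        + (1 + (δ₁ : ℂ) / x₁
        + (-1) ^ (2 + 1) * ((e₂ : ℂ) / charDegree (C₂ : G → ℂ) + e₃ / charDegree (C₃ : G → ℂ))
        - 4 * δ₁ * (1 + (-1) ^ 2) / x) = 2 * ((x₁ : ℂ) - δ₁) ^ 2 / (x₁ * x) := by
      rw [show (2 : ℂ) * ((x₁ : ℂ) - δ₁) ^ 2 / (x₁ * x)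
        = 2 + 2 * δ₁ / x₁ - 8 * δ₁ / x from ?_]
      · norm_num; ring
      · field_simp
        rw [hxe]
        rcases hδ₁ with rfl | rfl <;> push_cast <;> ring
    rw [hs] at q
    rw [← hxe]
    field_simp at q ⊢
    linear_combination q / 2
  have key' : (Nat.card G : ℚ) * ((x₁ : ℚ) - δ₁) ^ 2
      = 2 * (x₁ : ℚ) * ((x₁ : ℚ) + δ₁) * (c : ℚ) ^ 3 * (1 / (a : ℚ) + 1 / (b : ℚ)) ^ 2 := by
    apply (Rat.castHom ℂ).injective
    simp only [map_mul, map_add, map_sub, map_div₀, map_pow, map_one, map_natCast, map_intCast,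
      map_ofNat]
    exact key
  refine ⟨fun e => ?_, key'⟩
  have e' : (x₁ : ℚ) = δ₁ := by exact_mod_cast e
  have hpos : (0 : ℚ) < (x₁ : ℚ) + δ₁ := by
    rw [e']
    have : (0 : ℚ) < δ₁ := by rw [← e']; exact Nat.cast_pos.mpr hx₁
    linarith
  rw [sub_eq_zero.mpr e'] at key'
  have hcpos : (0 : ℚ) < c := Nat.cast_pos.mpr Nat.card_pos
  have hapos : (0 : ℚ) < a := Nat.cast_pos.mpr (cJ_pos σ τ h 0)
  have hbpos : (0 : ℚ) < b := Nat.cast_pos.mpr (cJ_pos σ τ h 1)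
  have hx₁pos : (0 : ℚ) < x₁ := Nat.cast_pos.mpr hx₁
  have : (0 : ℚ) < 2 * (x₁ : ℚ) * ((x₁ : ℚ) + δ₁) * (c : ℚ) ^ 3
      * (1 / (a : ℚ) + 1 / (b : ℚ)) ^ 2 := by positivity
  rw [← key'] at this
  norm_num at this

end Dih

end Cfsg.Agent.DihBlock
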