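import Cfsg.Agent.Invol.KleinFour
import Cfsg.Agent.Char.InvolutionCount
import Cfsg.Agent.DihBlock.Order
import Cfsg.Agent.RealChar.OddFixed
import Cfsg.Agent.Char.Real
import Cfsg.Agent.Brauer.KleinFour
import Mathlib.GroupTheory.Transfer

/-!
# The order formula for a Klein four Sylow 2-subgroup
-/

set_option autoImplicit false
set_option linter.unusedSectionVars false
set_option linter.style.haveILetI false

open scoped ComplexConjugate
open Cfsg

namespace Cfsg.Agent.DihBlock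

universe u

variable {G : Type u} [Group G] [Fintype G] {M : Ideal AlgInt}

theorem klein_setup {g₀ : ℕ} (hg₀ : Odd g₀) (hG : Nat.card G = 4 * g₀)
    (hnc : ¬ ∃ N : Subgroup G, N.Normal ∧ Nat.card N = g₀) (P : Sylow 2 G) {J : G}
    (hJ : J ∈ (P : Subgroup G)) (hJ2 : orderOf J = 2) :
    ∃ τ : G, Dih P J τ 1 ∧ (∀ s : G, orderOf s = 2 → IsConj J s) := by
  classical
  haveI : Fact (Nat.Prime 2) := ⟨Nat.prime_two⟩
  have hg0 : g₀ ≠ 0 := hg₀.pos.ne'
  have hcard : Nat.card (P : Subgroup G) = 4 := by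
    rw [P.card_eq_multiplicity, hG, show (4 : ℕ) = 2 ^ 2 by norm_num,
      Nat.factorization_mul (by norm_num) hg0, Finsupp.add_apply,
      Nat.prime_two.factorization_pow, Finsupp.single_eq_same,
      Nat.factorization_eq_zero_of_not_dvd (fun hd => Nat.not_even_iff_odd.mpr hg₀
        (even_iff_two_dvd.mpr hd)), add_zero]
  have hcomp : ∀ (h : Subgroup.normalizer ((P : Subgroup G) : Set G)
      ≤ Subgroup.centralizer ((P : Subgroup G) : Set G)), False := by
    intro h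
    obtain ⟨R, N, hN, hc⟩ := Transfer.hasNormalPComplement_of_normalizer_le_centralizer P h
    refine hnc ⟨N, hN, ?_⟩
    have h1 := hc.card_mul
    rw [Nat.card_congr (Sylow.equiv R P).toEquiv, hcard, hG] at h1
    exact Nat.eq_of_mul_eq_mul_right (by norm_num) (h1.trans (mul_comm _ _))
  have hsq : ∀ x ∈ (P : Subgroup G), x * x = 1 := by
    intro x hx
    by_contra hx2
    have ho : orderOf (⟨x, hx⟩ : (P : Subgroup G)) = 4 := by
      obtain ⟨k, hk⟩ := Element.orderOf_eq_pow_of_mem_isPGroup P.isPGroup' hx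
      have hd : orderOf (⟨x, hx⟩ : (P : Subgroup G)) ∣ 4 := hcard ▸ orderOf_dvd_natCard _
      rw [← Subgroup.orderOf_coe] at hd ⊢
      rcases (Nat.dvd_prime_pow Nat.prime_two).mp (show orderOf x ∣ 2 ^ 2 from hd) with ⟨j, hj, e⟩
      interval_cases j
      · exact (hx2 (by rw [orderOf_eq_one_iff.mp (show orderOf x = 1 by simpa using e), one_mul])).elim
      · exact (hx2 (by rw [← pow_two, ← (show orderOf x = 2 by simpa using e),
          pow_orderOf_eq_one])).elim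
      · simpa using e
    haveI : IsCyclic (P : Subgroup G) :=
      isCyclic_of_orderOf_eq_card ⟨x, hx⟩ (by rw [ho, hcard])
    refine hcomp (IsCyclic.normalizer_le_centralizer (p := 2) ?_ (P := P) inferInstance)
    refine (Nat.minFac_eq_two_iff _).mpr ?_
    rw [hG]; exact dvd_mul_of_dvd_left (by norm_num) _
  have hK : IsKleinFour (P : Subgroup G) := by
    haveI : Nontrivial (P : Subgroup G) := Finite.one_lt_card_iff_nontrivial.1 (by omega)
    exact ⟨hcard, (Monoid.exponent_eq_prime_iff Nat.prime_two).2 fun x hx =>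
      orderOf_eq_prime (by rw [pow_two]; exact Subtype.ext (hsq x x.2)) hx⟩
  rcases Invol.klein_dichotomy P hK with hall | ⟨hN, -⟩
  swap
  · exact (hcomp hN).elim
  obtain ⟨τ, hτ, hτJ⟩ : ∃ τ ∈ (P : Subgroup G), τ ∉ Subgroup.zpowers J := by
    by_contra hcon
    push Not at hcon
    have := Subgroup.card_le_of_le hcon
    rw [hcard, Nat.card_zpowers, hJ2] at this
    omega
  refine ⟨τ, ⟨hJ, hτ, ⟨0, rfl⟩, by rw [hJ2], ?_, hsq τ hτ, hτJ, by rw [hcard]⟩,
    fun s hs => hall J s hJ2 hs⟩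
  have hc := (Invol.klein_comm P hK).is_comm.comm ⟨τ, hτ⟩ ⟨J, hJ⟩
  have hc' : τ * J = J * τ := congrArg Subtype.val hc
  rw [hc', mul_inv_cancel_right, inv_eq_of_mul_eq_one_right (hsq J hJ)]

/-- The joint centralizer is the centralizer of the four-group. -/
theorem cJ_klein {P : Sylow 2 G} {J τ : G} (D : Dih P J τ 1) (i : ℕ) :
    cJ J τ 1 i = Nat.card (Subgroup.centralizer ((P : Subgroup G) : Set G)) := by
  rw [cJ]
  refine congrArg (fun H : Subgroup G => Nat.card H) (le_antisymm (fun g hg => ?_)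
    (Subgroup.centralizer_le ?_))
  · rw [Subgroup.mem_centralizer_iff] at hg ⊢
    have h1 : Commute J g := show J * g = g * J by simpa using hg _ (Or.inl rfl)
    have h2 : Commute (J ^ i * τ) g := hg _ (Or.inr rfl)
    have h3 : Commute τ g := by
      have := (h1.pow_left i).inv_left.mul_left h2
      rwa [inv_mul_cancel_left] at this
    intro x hx
    rcases D.cases hx with ⟨j, -, rfl⟩ | ⟨j, -, rfl⟩
    · exact (h1.pow_left j).eq
    · exact ((h1.pow_left j).mul_left h3).eq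
  · rintro x (rfl | rfl)
    · exact D.J_mem
    · exact D.refl_mem i

/-- The equation `|G| (1 + ∑ εᵢ / xᵢ) = 8 c(J)³ / c(P)²` and the degree relation. -/
theorem klein_equation (hM : IsPModular 2 M) {P : Sylow 2 G} {J τ : G} (D : Dih P J τ 1)
    (hone : ∀ s : G, orderOf s = 2 → IsConj J s) {χ₁ χ₂ χ₃ : IrrCharacter G} {ε₁ ε₂ ε₃ : ℤ}
    (hB : principalBlock M G = {χ : IrrCharacter G | (χ : G → ℂ) = (fun _ => 1) ∨ χ = χ₁ ∨
      χ = χ₂ ∨ χ = χ₃})
    (hdist : (χ₁ : G → ℂ) ≠ (fun _ => 1) ∧ (χ₂ : G → ℂ) ≠ (fun _ => 1) ∧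
      (χ₃ : G → ℂ) ≠ (fun _ => 1) ∧ χ₁ ≠ χ₂ ∧ χ₁ ≠ χ₃ ∧ χ₂ ≠ χ₃)
    (hε : (ε₁ = 1 ∨ ε₁ = -1) ∧ (ε₂ = 1 ∨ ε₂ = -1) ∧ (ε₃ = 1 ∨ ε₃ = -1))
    (hval : (χ₁ : G → ℂ) J = ε₁ ∧ (χ₂ : G → ℂ) J = ε₂ ∧ (χ₃ : G → ℂ) J = ε₃) :
    1 + ε₁ * (charDegree (χ₁ : G → ℂ) : ℤ) + ε₂ * (charDegree (χ₂ : G → ℂ) : ℤ)
        + ε₃ * (charDegree (χ₃ : G → ℂ) : ℤ) = 0 ∧
    (Nat.card G : ℚ) * (1 + (ε₁ : ℚ) / charDegree (χ₁ : G → ℂ)
        + (ε₂ : ℚ) / charDegree (χ₂ : G → ℂ) + (ε₃ : ℚ) / charDegree (χ₃ : G → ℂ))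
      = 8 * (Nat.card (Subgroup.centralizer ({J} : Set G)) : ℚ) ^ 3
        / (Nat.card (Subgroup.centralizer ((P : Subgroup G) : Set G)) : ℚ) ^ 2 := by
  classical
  obtain ⟨h1, h2, h3, h12, h13, h23⟩ := hdist
  have hne : ∀ χ : IrrCharacter G, (χ : G → ℂ) ≠ (fun _ => 1) → Char.trivialIrr G ≠ χ :=
    fun χ h e => h (by rw [← e]; rfl)
  have hpb : pb M G = {Char.trivialIrr G, χ₁, χ₂, χ₃} := by
    ext χ
    rw [mem_pb, hB, Set.mem_ofPred_eq]
    simp only [Finset.mem_insert, Finset.mem_singleton]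
    exact or_congr_left ⟨fun e => Subtype.ext e, fun e => by rw [e]; rfl⟩
  have hsum : ∀ f : IrrCharacter G → ℂ, ∑ χ ∈ pb M G, f χ
      = f (Char.trivialIrr G) + (f χ₁ + (f χ₂ + f χ₃)) := by
    intro f
    rw [hpb, Finset.sum_insert (by simp [hne _ h1, hne _ h2, hne _ h3]),
      Finset.sum_insert (by simp [h12, h13]), Finset.sum_pair h23]
  have hdeg := fun χ : IrrCharacter G => (Char.irr_charDegree_spec χ.2).2
  have hx : ∀ χ : IrrCharacter G, (charDegree (χ : G → ℂ) : ℂ) ≠ 0 := fun χ =>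
    Nat.cast_ne_zero.mpr (Char.irr_charDegree_spec χ.2).1.ne'
  have hJo : orderOf J = 2 ^ 1 := by rw [pow_one]; exact D.order
  have hJ1 : J ≠ 1 := fun e => by rw [e, orderOf_one] at hJo; norm_num at hJo
  have hTv : ∀ g, ((Char.trivialIrr G : IrrCharacter G) : G → ℂ) g = 1 := fun _ => rfl
  obtain ⟨v1, v2, v3⟩ := hval
  constructor
  · have h := col_regular hM hJo hJ1 (ρ := 1) (by rw [orderOf_one]; norm_num)
    rw [hsum] at h
    simp only [hTv] at h
    simp only [v1, v2, v3, hdeg, map_natCast, map_one, one_mul, ← add_assoc] at h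
    exact_mod_cast h
  have h := D.order_equation hM (by simpa using hone) (l := 1) (by norm_num) (by norm_num)
  rw [hsum] at h
  simp only [pow_one, hTv] at h
  simp only [pow_one, v1, v2, v3, hdeg, map_intCast, map_one, cJ_klein D, mul_one,
    Nat.reduceSub, Finset.sum_range_succ, Finset.range_zero, Finset.sum_empty, Nat.cast_one] at h
  have hcube : ∀ e : ℤ, e = 1 ∨ e = -1 → (e : ℂ) * (e : ℂ) ^ 2 = e := by
    rintro e (rfl | rfl) <;> norm_num
  rw [hcube _ hε.1, hcube _ hε.2.1, hcube _ hε.2.2] at h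
  have hP0 : (Nat.card (Subgroup.centralizer ((P : Subgroup G) : Set G)) : ℂ) ≠ 0 :=
    Nat.cast_ne_zero.mpr Nat.card_pos.ne'
  have h' : (Nat.card G : ℂ) * (1 + (ε₁ : ℂ) / charDegree (χ₁ : G → ℂ)
        + (ε₂ : ℂ) / charDegree (χ₂ : G → ℂ) + (ε₃ : ℂ) / charDegree (χ₃ : G → ℂ))
      = 8 * (Nat.card (Subgroup.centralizer ({J} : Set G)) : ℂ) ^ 3
        / (Nat.card (Subgroup.centralizer ((P : Subgroup G) : Set G)) : ℂ) ^ 2 := by
    refine Eq.trans ?_ (h.trans ?_)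
    · ring
    · field_simp
      ring
  have key := h'
  apply (Rat.castHom ℂ).injective
  simp only [map_mul, map_add, map_div₀, map_pow, map_one, map_natCast, map_intCast, map_ofNat]
  exact key

/-- With two positive signs, the two characters are complex conjugate. -/
theorem klein_degrees_eq (hM : IsPModular 2 M) {P : Sylow 2 G} {J τ : G} (D : Dih P J τ 1)
    (hone : ∀ s : G, orderOf s = 2 → IsConj J s) {χ₁ χ₂ χ₃ : IrrCharacter G}
    (hB : principalBlock M G = {χ : IrrCharacter G | (χ : G → ℂ) = (fun _ => 1) ∨ χ = χ₁ ∨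
      χ = χ₂ ∨ χ = χ₃})
    (hdist : (χ₁ : G → ℂ) ≠ (fun _ => 1) ∧ (χ₂ : G → ℂ) ≠ (fun _ => 1) ∧
      (χ₃ : G → ℂ) ≠ (fun _ => 1) ∧ χ₁ ≠ χ₂ ∧ χ₁ ≠ χ₃ ∧ χ₂ ≠ χ₃)
    (hval : (χ₁ : G → ℂ) J = 1 ∧ (χ₂ : G → ℂ) J = 1 ∧ (χ₃ : G → ℂ) J = -1) :
    charDegree (χ₁ : G → ℂ) = charDegree (χ₂ : G → ℂ) ∧
      ∃ r, charDegree (χ₃ : G → ℂ) + 1 = 4 * r := by
  classical
  haveI : Fact (Nat.Prime 2) := ⟨Nat.prime_two⟩
  obtain ⟨h1, h2, h3, h12, h13, h23⟩ := hdist
  obtain ⟨v1, v2, v3⟩ := hval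
  -- congruences modulo four
  have hmod : ∀ (χ : IrrCharacter G) (e : ℤ), (χ : G → ℂ) J = e →
      (4 : ℤ) ∣ (charDegree (χ : G → ℂ) : ℤ) + 3 * e := by
    intro χ e he
    haveI := Fintype.ofFinite (P : Subgroup G)
    obtain ⟨m, hm⟩ := Brauer.exists_sum_subgroup_eq_card_mul (Char.isCharacter_of_irr χ.2)
      (P : Subgroup G)
    rw [← Finset.add_sum_erase _ _ (Finset.mem_univ (1 : (P : Subgroup G))),
      Finset.sum_congr rfl (g := fun _ => ((e : ℤ) : ℂ)) (fun x hx => ?_), Finset.sum_const,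
      nsmul_eq_mul, OneMemClass.coe_one, (Char.irr_charDegree_spec χ.2).2, D.card] at hm
    · have hc : (Finset.univ.erase (1 : (P : Subgroup G))).card = 3 := by
        rw [Finset.card_erase_of_mem (Finset.mem_univ _), Finset.card_univ,
          ← Nat.card_eq_fintype_card, D.card]
      rw [hc] at hm
      exact ⟨m, by exact_mod_cast hm⟩
    · have hx1 : (x : G) ≠ 1 := fun h => (Finset.mem_erase.mp hx).1 (Subtype.ext h)
      have hx2 : orderOf (x : G) = 2 := by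
        rcases D.cases x.2 with ⟨i, hi, e⟩ | ⟨i, -, e⟩
        · rw [e] at hx1 ⊢
          rcases (show i = 0 ∨ i = 1 by omega) with rfl | rfl
          · exact absurd (pow_zero J) hx1
          · exact D.orderOf_J.symm ▸ rfl
        · rw [e]; exact D.orderOf_refl i
      rw [← Char.isClassFunction_eq_of_isConj (Char.irr_isClassFunction χ.2) (hone _ hx2)]
      exact he
  have hm1 := hmod χ₁ 1 (by simpa using v1)
  have hm2 := hmod χ₂ 1 (by simpa using v2)
  have hm3 := hmod χ₃ (-1) (by simpa using v3)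
  refine ⟨?_, ?_⟩
  swap
  · obtain ⟨r, hr⟩ := hm3
    exact ⟨(r + 1).toNat, by have := (Char.irr_charDegree_spec χ₃.2).1; omega⟩
  have hnu : ∀ χ : IrrCharacter G, Odd (charDegree (χ : G → ℂ)) →
      RealChar.fsNu (χ : G → ℂ) = 0 ∨ RealChar.fsNu (χ : G → ℂ) = 1 := by
    intro χ hodd
    rcases RealChar.fsNu_cases χ.2 with ⟨-, h0⟩ | ⟨hr, -⟩
    · exact Or.inl h0
    · haveI := Fintype.ofFinite (⊥ : Subgroup G)
      refine Or.inr (RealChar.odd_fixed_fsNu_eq_one (⊥ : Subgroup G) χ.2 hr ?_ hodd)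
      rw [classInner, Subgroup.card_bot,
        Finset.sum_eq_single (1 : (⊥ : Subgroup G)) (fun b _ hb => (hb (Subsingleton.elim b 1)).elim)
          (fun h => (h (Finset.mem_univ _)).elim)]
      simp [(Char.irr_charDegree_spec χ.2).2]
  set C := Subgroup.centralizer ({J ^ 1} : Set G) with hC
  obtain ⟨Q, N, hN, hNo, hcompl, -, hmem⟩ :
      ∃ (Q : Sylow 2 C) (N : Subgroup C), N.Normal ∧ ¬ 2 ∣ Nat.card N ∧
        (Q : Subgroup C).IsComplement' N ∧ 4 * 1 * Nat.card N = Nat.card C ∧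
        ∀ c, c ∈ (Q : Subgroup C) ↔ (c : G) ∈ (P : Subgroup G) := D.exists_local
  haveI := hN
  haveI := Fintype.ofFinite N
  let v : C := ⟨J, D.P_le_centralizer D.mem_σ⟩
  have hvQ : v ∈ (Q : Subgroup C) := (hmem v).mpr D.mem_σ
  have hJ1 : J ≠ 1 := fun e => by
    have h := D.order; rw [e, orderOf_one] at h; norm_num at h
  have hNv := D.hasComplement_mem D.mem_σ hJ1
  have hvm : (v : G) ^ 1 = J ^ 1 := rfl
  have hout : ∀ χ : IrrCharacter G, χ ∉ pb M G → ∑ x ∈ cosetSet N v, (χ : G → ℂ) x = 0 :=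
    fun χ hχ => coset_sum_eq_zero hM hC hcompl hNo hvQ hvm hNv hχ
  have hin : ∀ χ : IrrCharacter G, χ ∈ pb M G →
      ∑ x ∈ cosetSet N v, (χ : G → ℂ) x = (Nat.card N : ℂ) * (χ : G → ℂ) J := by
    intro χ hχ
    rw [Finset.sum_congr rfl fun x hx => block_value_coset hM hC hcompl hNo hvQ hNv hχ hx,
      Finset.sum_const, card_cosetSet, nsmul_eq_mul]
  have hroot : ∀ x ∈ cosetSet N v, Nat.card {w : G // w * w = x} = 0 := by
    intro x hx
    obtain ⟨y, hy, rfl⟩ := mem_cosetSet.mp hx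
    obtain ⟨n, hn, hnw⟩ := cosetSet_pPart hcompl hNo hvQ hy
    rw [Nat.card_eq_zero]
    refine Or.inl ⟨?_⟩
    rintro ⟨w, hw⟩
    have h2 : orderOf (Element.pPart 2 (v * y)) = 2 := by
      have hv2 : orderOf v = 2 := by rw [← Subgroup.orderOf_coe]; exact D.order
      refine Eq.trans ?_ hv2
      refine Eq.trans ?_ (congrArg orderOf hnw)
      exact (orderOf_injective (MulAut.conj n).toMonoidHom (MulAut.conj n).injective _).symm
    have hd : 2 ∣ orderOf ((v * y : C) : G) := by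
      rw [Subgroup.orderOf_coe]
      exact h2 ▸ orderOf_dvd_of_mem_zpowers (Element.pPart_mem_zpowers 2 (v * y))
    have h4 : 4 ∣ orderOf w := by
      rw [← hw, ← pow_two, orderOf_pow] at hd
      have h2w : 2 ∣ orderOf w :=
        hd.trans (Nat.div_dvd_of_dvd (Nat.gcd_dvd_left _ _))
      rw [Nat.gcd_eq_right h2w] at hd
      obtain ⟨k, hk⟩ := hd
      exact ⟨k, by rw [← Nat.mul_div_cancel' h2w, hk]; ring⟩
    obtain ⟨z, -, hz⟩ := Element.exists_orderOf_eq_of_dvd (orderOf_pos w).ne' h4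
    obtain ⟨T, hT⟩ := (IsPGroup.of_card (p := 2) (G := Subgroup.zpowers z) (n := 2)
      (by rw [Nat.card_zpowers, hz]; norm_num)).exists_le_sylow
    obtain ⟨a, ha⟩ := MulAction.exists_smul_eq G T P
    have hzP : a * z * a⁻¹ ∈ (P : Subgroup G) := by
      rw [← ha, Sylow.coe_subgroup_smul]
      exact ⟨z, hT (Subgroup.mem_zpowers z), rfl⟩
    have ho : orderOf (a * z * a⁻¹) = 4 :=
      (orderOf_injective (MulAut.conj a).toMonoidHom (MulAut.conj a).injective _).trans hz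
    rcases D.cases hzP with ⟨i, -, e⟩ | ⟨i, -, e⟩
    · rw [e] at ho
      have := Nat.le_of_dvd (by norm_num) (D.order ▸ orderOf_pow_dvd (x := J) i)
      omega
    · rw [e, D.orderOf_refl] at ho
      omega
  have hFS : ∑ χ : IrrCharacter G,
      RealChar.fsNu (χ : G → ℂ) * ∑ x ∈ cosetSet N v, (χ : G → ℂ) x = 0 := by
    simp only [Finset.mul_sum]
    rw [Finset.sum_comm]
    refine Finset.sum_eq_zero fun x hx => ?_
    rw [← finsum_eq_sum_of_fintype, ← RealChar.card_sqrt_eq, hroot x hx, Nat.cast_zero]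
  have hpb : pb M G = {Char.trivialIrr G, χ₁, χ₂, χ₃} := by
    ext χ
    rw [mem_pb, hB, Set.mem_ofPred_eq]
    simp only [Finset.mem_insert, Finset.mem_singleton]
    exact or_congr_left ⟨fun e => Subtype.ext e, fun e => by rw [e]; rfl⟩
  have hne : ∀ χ : IrrCharacter G, (χ : G → ℂ) ≠ (fun _ => 1) → Char.trivialIrr G ≠ χ :=
    fun χ h e => h (by rw [← e]; rfl)
  rw [← Finset.sum_subset (Finset.subset_univ (pb M G)) (fun χ _ hχ => by rw [hout χ hχ, mul_zero]),
    Finset.sum_congr rfl fun χ hχ => by rw [hin χ hχ], hpb,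
    Finset.sum_insert (by simp [hne _ h1, hne _ h2, hne _ h3]),
    Finset.sum_insert (by simp [h12, h13]), Finset.sum_pair h23] at hFS
  have hT1 : RealChar.fsNu ((Char.trivialIrr G : IrrCharacter G) : G → ℂ) = 1 := by
    rw [RealChar.fsNu_eq_sum]
    simp [Char.trivialIrr, ← Nat.card_eq_fintype_card]
  have hodd : ∀ {x : ℕ} {e : ℤ}, Odd e → (4 : ℤ) ∣ (x : ℤ) + 3 * e → Odd x := by
    rintro x e ⟨k, rfl⟩ ⟨r, hr⟩
    rw [Nat.odd_iff]
    omega
  rw [hT1, show ((Char.trivialIrr G : IrrCharacter G) : G → ℂ) J = 1 from rfl, v1, v2, v3] at hFS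
  have hN0 : (Nat.card N : ℂ) ≠ 0 := Nat.cast_ne_zero.mpr Nat.card_pos.ne'
  have hν : 1 + RealChar.fsNu (χ₁ : G → ℂ) + RealChar.fsNu (χ₂ : G → ℂ)
      - RealChar.fsNu (χ₃ : G → ℂ) = 0 := by
    refine mul_left_cancel₀ hN0 ?_
    rw [mul_zero]
    linear_combination hFS
  have hν1 : RealChar.fsNu (χ₁ : G → ℂ) = 0 := by
    rcases hnu χ₁ (hodd (by decide) hm1) with a | a
    · exact a
    · exfalso
      rcases hnu χ₂ (hodd (by decide) hm2) with b | b <;>
        rcases hnu χ₃ (hodd (by decide) hm3) with c | c <;>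
        rw [a, b, c] at hν <;> norm_num at hν
  have hmemc : Char.conjIrr χ₁ ∈ pb M G := by
    by_contra hcon
    have hs := hout _ hcon
    simp only [Char.conjIrr_apply, ← map_sum, hin χ₁ (by simp [hpb]), v1, mul_one, map_natCast]
      at hs
    exact hN0 hs
  have hcJ : (Char.conjIrr χ₁ : G → ℂ) J = 1 := by rw [Char.conjIrr_apply, v1, map_one]
  rw [hpb] at hmemc
  simp only [Finset.mem_insert, Finset.mem_singleton] at hmemc
  rcases hmemc with e | e | e | e
  · exfalso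
    apply h1
    funext g
    have := congrArg conj (show (Char.conjIrr χ₁ : G → ℂ) g = 1 by rw [e]; rfl)
    simpa [Char.conjIrr_apply] using this
  · exact absurd hν1 (RealChar.fsNu_ne_zero_of_real χ₁.2 fun g => by
      conv_rhs => rw [← e, Char.conjIrr_apply])
  · have h11 : (χ₂ : G → ℂ) 1 = (χ₁ : G → ℂ) 1 := by
      rw [← e, Char.conjIrr_apply, (Char.irr_charDegree_spec χ₁.2).2, map_natCast]
    rw [(Char.irr_charDegree_spec χ₁.2).2, (Char.irr_charDegree_spec χ₂.2).2] at h11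
    exact_mod_cast h11.symm
  · rw [e, v3] at hcJ
    norm_num at hcJ

end Cfsg.Agent.DihBlock
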