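import Cfsg.Agent.Classif.DihedralTwoAut
import Cfsg.Agent.TwoGroups.Recognition
import Cfsg.Agent.Transfer.Frobenius
import Cfsg.Agent.DihBlock.Sections

/-!
# Dihedral Sylow 2-subgroups: centralizers and fusion of rotations
-/

set_option autoImplicit false
set_option linter.unusedSectionVars false
set_option linter.style.haveILetI false

open Cfsg

namespace Cfsg.Agent.DihBlock

universe u

variable {G : Type u} [Group G] [Fintype G]

/-- Coordinates for a dihedral Sylow 2-subgroup of order `4 h` (a four-group when `h = 1`). -/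
structure Dih (P : Sylow 2 G) (σ τ : G) (h : ℕ) : Prop where
  mem_σ : σ ∈ (P : Subgroup G)
  mem_τ : τ ∈ (P : Subgroup G)
  pow2 : ∃ a, h = 2 ^ a
  order : orderOf σ = 2 * h
  inv : τ * σ * τ⁻¹ = σ⁻¹
  sq : τ * τ = 1
  notMem : τ ∉ Subgroup.zpowers σ
  card : Nat.card (P : Subgroup G) = 4 * h

/-- The number of elements of `P` commuting with `v`. -/
noncomputable def cardComm (P : Sylow 2 G) (v : G) : ℕ :=
  Nat.card {q : (P : Subgroup G) // (q : G) * v = v * q}

namespace Dih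

variable {P : Sylow 2 G} {σ τ : G} {h : ℕ} (D : Dih P σ τ h)
include D

theorem h_pos : 0 < h := by obtain ⟨a, rfl⟩ := D.pow2; positivity

theorem pow_two_h : σ ^ (2 * h) = 1 := by rw [← D.order]; exact pow_orderOf_eq_one σ

theorem conj_pow_σ (i : ℕ) : τ * σ ^ i * τ⁻¹ = (σ ^ i)⁻¹ := by rw [← conj_pow, D.inv, inv_pow]

theorem mul_τ (i : ℕ) : τ * σ ^ i = (σ ^ i)⁻¹ * τ := mul_inv_eq_iff_eq_mul.mp (D.conj_pow_σ i)

theorem refl_sq (i : ℕ) : σ ^ i * τ * (σ ^ i * τ) = 1 := by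
  rw [mul_assoc, ← mul_assoc τ, D.mul_τ, mul_assoc, D.sq, mul_one, mul_inv_cancel]

theorem refl_inv (i : ℕ) : (σ ^ i * τ)⁻¹ = σ ^ i * τ := inv_eq_of_mul_eq_one_right (D.refl_sq i)

theorem refl_notMem (i : ℕ) : σ ^ i * τ ∉ Subgroup.zpowers σ := fun hm =>
  D.notMem ((Subgroup.mul_mem_cancel_left _ (Subgroup.npow_mem_zpowers σ i)).mp hm)

theorem refl_ne_pow (i j : ℕ) : σ ^ i * τ ≠ σ ^ j := fun e =>
  D.refl_notMem i (e ▸ Subgroup.npow_mem_zpowers σ j)

theorem orderOf_refl (i : ℕ) : orderOf (σ ^ i * τ) = 2 :=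
  orderOf_eq_prime (by rw [pow_two]; exact D.refl_sq i) fun e => D.refl_ne_pow i 0 (by simpa using e)

theorem refl_mem (i : ℕ) : σ ^ i * τ ∈ (P : Subgroup G) := mul_mem (pow_mem D.mem_σ i) D.mem_τ

theorem pow_eq_one_iff (i : ℕ) : σ ^ i = 1 ↔ 2 * h ∣ i := by
  rw [← orderOf_dvd_iff_pow_eq_one, D.order]

theorem pow_inj {i j : ℕ} (hi : i < 2 * h) (hj : j < 2 * h) (e : σ ^ i = σ ^ j) : i = j :=
  pow_injOn_Iio_orderOf (by rw [Set.mem_Iio, D.order]; exact hi)
    (by rw [Set.mem_Iio, D.order]; exact hj) e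

theorem refl_inj {i j : ℕ} (hi : i < 2 * h) (hj : j < 2 * h) (e : σ ^ i * τ = σ ^ j * τ) : i = j :=
  D.pow_inj hi hj (mul_right_cancel e)

theorem pow_mod (i : ℕ) : σ ^ i = σ ^ (i % (2 * h)) := by rw [← D.order, pow_mod_orderOf]

theorem cases {x : G} (hx : x ∈ (P : Subgroup G)) :
    (∃ i < 2 * h, x = σ ^ i) ∨ ∃ i < 2 * h, x = σ ^ i * τ := by
  have hpos := D.h_pos
  haveI : NeZero (2 * h) := ⟨by omega⟩
  set f := TwoGroups.dihedralLift σ τ D.pow_two_h D.sq D.inv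
  have hinj : Function.Injective f :=
    TwoGroups.dihedralLift_injective D.pow_two_h D.sq D.inv D.order D.notMem
  have hle : f.range ≤ (P : Subgroup G) := by
    rw [TwoGroups.dihedralLift_range, Subgroup.closure_le]
    rintro g (rfl | rfl)
    · exact D.mem_σ
    · exact D.mem_τ
  have heq : f.range = (P : Subgroup G) := by
    refine Subgroup.eq_of_le_of_card_ge hle ?_
    rw [← Nat.card_congr (MonoidHom.ofInjective hinj).toEquiv, DihedralGroup.nat_card, D.card]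
    omega
  rw [← heq] at hx
  obtain ⟨(i | i), rfl⟩ := hx
  · refine Or.inl ⟨i.val, i.val_lt, ?_⟩
    conv_lhs => rw [show i = (((i.val : ℤ) : ZMod (2 * h))) by simp]
    rw [show f (DihedralGroup.r _) = _ from TwoGroups.dihedralLift_r _ _ _ _ _ (i.val : ℤ),
      zpow_natCast]
  · refine Or.inr ⟨(-i).val, (-i).val_lt, ?_⟩
    conv_lhs => rw [show i = ((-((-i).val : ℤ) : ℤ) : ZMod (2 * h)) by simp]
    rw [show f (DihedralGroup.sr _) = _ from
      TwoGroups.dihedralLift_sr _ _ _ _ _ (-((-i).val : ℤ)), zpow_neg, zpow_natCast]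
    rw [mul_inv_eq_iff_eq_mul, mul_assoc, D.mul_τ, ← mul_assoc, mul_inv_cancel, one_mul]

theorem orderOf_J : orderOf (σ ^ h) = 2 := by
  rw [orderOf_pow_of_dvd D.h_pos.ne' (D.order ▸ dvd_mul_left h 2), D.order,
    Nat.mul_div_cancel _ D.h_pos]

theorem J_mem : σ ^ h ∈ (P : Subgroup G) := pow_mem D.mem_σ h

theorem J_inv : (σ ^ h)⁻¹ = σ ^ h :=
  inv_eq_of_mul_eq_one_right (by rw [← pow_add, ← two_mul]; exact D.pow_two_h)

theorem P_le_centralizer : (P : Subgroup G) ≤ Subgroup.centralizer ({σ ^ h} : Set G) := by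
  intro x hx
  rw [Subgroup.mem_centralizer_singleton_iff]
  rcases D.cases hx with ⟨i, -, rfl⟩ | ⟨i, -, rfl⟩
  · exact (Commute.pow_pow_self σ i h).eq
  · rw [mul_assoc, D.mul_τ, D.J_inv, ← mul_assoc, (Commute.pow_pow_self σ i h).eq, mul_assoc]

theorem eq_J_of_sq {i : ℕ} (h2 : σ ^ i * σ ^ i = 1) (h1 : σ ^ i ≠ 1) : σ ^ i = σ ^ h := by
  rw [← pow_add, D.pow_eq_one_iff] at h2
  have h3 : h ∣ i := by
    rw [← two_mul] at h2
    exact (Nat.mul_dvd_mul_iff_left two_pos).mp h2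
  obtain ⟨k, rfl⟩ := h3
  rw [Ne, D.pow_eq_one_iff, mul_comm 2 h] at h1
  have hk : ¬ 2 ∣ k := fun hk => h1 (Nat.mul_dvd_mul_left h hk)
  obtain ⟨m, rfl⟩ : Odd k := Nat.not_even_iff_odd.mp fun he => hk he.two_dvd
  rw [show h * (2 * m + 1) = 2 * h * m + h by ring, pow_add, pow_mul, D.pow_two_h, one_pow, one_mul]

theorem involution_cases {x : G} (hx : x ∈ (P : Subgroup G)) (ho : orderOf x = 2) :
    x = σ ^ h ∨ ∃ i < 2 * h, x = σ ^ i * τ := by
  rcases D.cases hx with ⟨i, -, rfl⟩ | h'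
  · have h2 : σ ^ i * σ ^ i = 1 := by
      have := pow_orderOf_eq_one (σ ^ i)
      rwa [ho, pow_two] at this
    refine Or.inl (D.eq_J_of_sq h2 fun e => ?_)
    rw [e, orderOf_one] at ho
    omega
  · exact Or.inr h'

theorem exists_pow_J {i : ℕ} (hi : σ ^ i ≠ 1) : ∃ m : ℕ, (σ ^ i) ^ m = σ ^ h := by
  have ho : orderOf (σ ^ i) ∣ 2 * h := D.order ▸ orderOf_pow_dvd i
  obtain ⟨a, ha⟩ := D.pow2
  rw [ha, ← pow_succ'] at ho
  obtain ⟨b, -, hb⟩ := (Nat.dvd_prime_pow Nat.prime_two).mp ho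
  obtain ⟨c, rfl⟩ := Nat.exists_eq_succ_of_ne_zero (n := b) (by
    rintro rfl; exact hi (orderOf_eq_one_iff.mp (by simpa using hb)))
  refine ⟨2 ^ c, ?_⟩
  rw [← pow_mul]
  refine D.eq_J_of_sq ?_ ?_
  · rw [← pow_add, ← two_mul, ← mul_assoc, mul_comm 2 i, mul_assoc, ← pow_succ', pow_mul, ← hb,
      pow_orderOf_eq_one]
  · rw [pow_mul, Ne, ← orderOf_dvd_iff_pow_eq_one, hb]
    intro hd
    have := Nat.le_of_dvd (by positivity) hd
    exact absurd this (not_le.mpr (Nat.pow_lt_pow_right (by norm_num) (Nat.lt_succ_self c)))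

/-- Centralizers of nontrivial 2-elements have normal 2-complements. -/
theorem hasComplement {v : G} {k : ℕ} (hv : orderOf v = 2 ^ k) (hv1 : v ≠ 1) :
    HasNormalPComplement 2 (Subgroup.centralizer ({v} : Set G)) := by
  classical
  haveI : Fact (Nat.Prime 2) := ⟨Nat.prime_two⟩
  haveI : NeZero (2 * h) := ⟨by have := D.h_pos; omega⟩
  obtain ⟨e⟩ : Nonempty ((P : Subgroup G) ≃* DihedralGroup (2 * h)) :=
    TwoGroups.equiv_dihedral_of_generators (a := (⟨σ, D.mem_σ⟩ : (P : Subgroup G)))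
      (b := ⟨τ, D.mem_τ⟩) (by rw [← D.order, ← Subgroup.orderOf_coe])
      (by rw [D.card]; ring)
      (fun hm => by
        obtain ⟨i, hi⟩ := Subgroup.mem_zpowers_iff.mp hm
        exact D.notMem (Subgroup.mem_zpowers_iff.mpr ⟨i, by simpa using congrArg Subtype.val hi⟩))
      (Subtype.ext D.sq) (Subtype.ext D.inv)
  set C := Subgroup.centralizer ({v} : Set G) with hC
  obtain ⟨z, hz, hzo⟩ := Element.exists_orderOf_eq_of_dvd (g := v) (d := 2) (orderOf_pos v).ne' (by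
    rcases k with - | k
    · exact absurd (orderOf_eq_one_iff.mp (by simpa using hv)) hv1
    · rw [hv]; exact dvd_pow_self 2 (by omega))
  have hzc : ∀ w ∈ C, Commute w z := by
    intro w hw
    obtain ⟨i, rfl⟩ := Subgroup.mem_zpowers_iff.mp hz
    exact (show Commute w v from Subgroup.mem_centralizer_singleton_iff.mp hw).zpow_right i
  refine Transfer.hasNormalPComplement_of_coprime_centralize fun S hS _ g hg hgo => ?_
  set S' : Subgroup G := S.map C.subtype with hS'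
  set R : Subgroup G := S' ⊔ Subgroup.zpowers z with hR
  have hS'p : IsPGroup 2 S' := hS.map _
  have hzp : IsPGroup 2 (Subgroup.zpowers z) :=
    IsPGroup.of_card (n := 1) (by rw [Nat.card_zpowers, hzo, pow_one])
  have hSle : S' ≤ Subgroup.normalizer (Subgroup.zpowers z : Set G) := by
    rintro _ ⟨s, -, rfl⟩
    refine Subgroup.centralizer_le_normalizer _ (Subgroup.mem_centralizer_iff.mpr fun y hy => ?_)
    obtain ⟨i, rfl⟩ := Subgroup.mem_zpowers_iff.mp hy
    exact ((hzc _ s.2).zpow_right i).eq.symm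
  have hRp : IsPGroup 2 R := hS'p.to_sup_of_normal_right' hzp hSle
  have hgR : (g : G) ∈ Subgroup.normalizer (R : Set G) := by
    have key : ∀ c : C, c ∈ Subgroup.normalizer (S : Set C) →
        R.map (MulAut.conj (c : G)).toMonoidHom ≤ R := by
      intro c hc
      rw [hR, Subgroup.map_sup]
      refine sup_le_sup ?_ ?_
      · rintro _ ⟨_, ⟨s, hs, rfl⟩, rfl⟩
        exact ⟨c * s * c⁻¹, (Subgroup.mem_normalizer_iff.mp hc s).mp hs, by simp⟩
      · rintro _ ⟨w, hw, rfl⟩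
        obtain ⟨i, rfl⟩ := Subgroup.mem_zpowers_iff.mp hw
        have : (c : G) * z ^ i * (c : G)⁻¹ = z ^ i := by
          rw [((hzc _ c.2).zpow_right i).eq, mul_inv_cancel_right]
        show (c : G) * z ^ i * (c : G)⁻¹ ∈ _
        rw [this]
        exact Subgroup.zpow_mem_zpowers z i
    rw [Subgroup.mem_normalizer_iff]
    refine fun x => ⟨fun hx => key g hg ⟨x, hx, rfl⟩, fun hx => ?_⟩
    have := key g⁻¹ (inv_mem hg) ⟨_, hx, rfl⟩
    simpa [mul_assoc] using this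
  obtain ⟨T, hT⟩ := hRp.exists_le_sylow
  obtain ⟨a, ha⟩ := MulAction.exists_smul_eq G T P
  have hRP : ∀ x ∈ R, a * x * a⁻¹ ∈ (P : Subgroup G) := by
    intro x hx
    rw [← ha, Sylow.coe_subgroup_smul]
    exact ⟨x, hT hx, rfl⟩
  let ι : R →* DihedralGroup (2 * h) :=
    e.toMonoidHom.comp (((MulAut.conj a).toMonoidHom.comp R.subtype).codRestrict _
      fun x => hRP x x.2)
  have hι : Function.Injective ι := fun x y hxy => by
    have := congrArg Subtype.val (e.injective hxy)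
    exact Subtype.ext ((MulAut.conj a).injective this)
  let φ : MulAut R := R.normalizerMonoidHom ⟨g, hgR⟩
  have hφ : φ ^ orderOf g = 1 := by
    rw [← map_pow, show (⟨(g : G), hgR⟩ : Subgroup.normalizer (R : Set G)) ^ orderOf g = 1 from
      Subtype.ext (by simp [← Subgroup.coe_pow, pow_orderOf_eq_one]), map_one]
  have hzR : z ∈ R := Subgroup.mem_sup_right (Subgroup.mem_zpowers z)
  have h1 := Classif.dihedral_aut_trivial hRp ι hι φ
    (Nat.coprime_two_right.mp hgo) hφ (t := ⟨z, hzR⟩) (by rwa [← Subgroup.orderOf_coe])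
    (Subtype.ext (show (g : G) * z * (g : G)⁻¹ = z by rw [(hzc _ g.2).eq, mul_inv_cancel_right]))
  refine Subgroup.mem_centralizer_iff.mpr fun s hs => Subtype.ext ?_
  have hsR : ((s : C) : G) ∈ R := Subgroup.mem_sup_left ⟨s, hs, rfl⟩
  have h3 : φ (⟨((s : C) : G), hsR⟩ : R) = ⟨((s : C) : G), hsR⟩ := by rw [h1]; rfl
  have h2 : (g : G) * s * (g : G)⁻¹ = s := congrArg Subtype.val h3
  exact (mul_inv_eq_iff_eq_mul.mp h2).symm

theorem exists_orderOf {x : G} (hx : x ∈ (P : Subgroup G)) : ∃ k, orderOf x = 2 ^ k :=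
  haveI : Fact (Nat.Prime 2) := ⟨Nat.prime_two⟩
  Element.orderOf_eq_pow_of_mem_isPGroup P.isPGroup' hx

theorem hasComplement_mem {x : G} (hx : x ∈ (P : Subgroup G)) (h1 : x ≠ 1) :
    HasNormalPComplement 2 (Subgroup.centralizer ({x} : Set G)) := by
  obtain ⟨k, hk⟩ := D.exists_orderOf hx
  exact D.hasComplement hk h1

/-- `P` inside the centralizer of the central involution, with the normal complement. -/
theorem exists_local : ∃ (Q : Sylow 2 (Subgroup.centralizer ({σ ^ h} : Set G)))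
    (N : Subgroup (Subgroup.centralizer ({σ ^ h} : Set G))), N.Normal ∧ ¬ 2 ∣ Nat.card N ∧
      (Q : Subgroup (Subgroup.centralizer ({σ ^ h} : Set G))).IsComplement' N ∧
      4 * h * Nat.card N = Nat.card (Subgroup.centralizer ({σ ^ h} : Set G)) ∧
      ∀ c, c ∈ (Q : Subgroup (Subgroup.centralizer ({σ ^ h} : Set G))) ↔
        (c : G) ∈ (P : Subgroup G) := by
  haveI : Fact (Nat.Prime 2) := ⟨Nat.prime_two⟩
  obtain ⟨N, hN, hNo, hc, hidx, -⟩ := exists_split
    (D.hasComplement (k := 1) (by rw [D.orderOf_J, pow_one])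
      fun e => by have := D.orderOf_J; rw [e, orderOf_one] at this; omega)
    (P.subtype D.P_le_centralizer)
  refine ⟨_, N, hN, hNo, hc, ?_, fun c => Subgroup.mem_subgroupOf⟩
  rw [← N.index_mul_card, hidx, Sylow.coe_subtype,
    Nat.card_congr (Subgroup.subgroupOfEquivOfLe D.P_le_centralizer).toEquiv, D.card]

theorem cardComm_J : cardComm P (σ ^ h) = 4 * h := by
  rw [← D.card, cardComm]
  exact Nat.card_congr (Equiv.subtypeUnivEquiv fun q =>
    Subgroup.mem_centralizer_singleton_iff.mp (D.P_le_centralizer q.2))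

theorem cardComm_pow {i : ℕ} (h1 : σ ^ i ≠ 1) (hJ : σ ^ i ≠ σ ^ h) : cardComm P (σ ^ i) = 2 * h := by
  rw [cardComm, ← D.order, ← Nat.card_zpowers]
  let f : Subgroup.zpowers σ → {q : (P : Subgroup G) // (q : G) * σ ^ i = σ ^ i * q} :=
    fun w => ⟨⟨w.1, Subgroup.zpowers_le.mpr D.mem_σ w.2⟩, ?_⟩
  refine (Nat.card_eq_of_bijective f ⟨?_, ?_⟩).symm
  rotate_left 2
  · obtain ⟨j, hj⟩ := Subgroup.mem_zpowers_iff.mp w.2
    exact ((hj ▸ ((Commute.refl σ).zpow_left j).pow_right i : Commute (w : G) (σ ^ i))).eq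
  · exact fun a b e => Subtype.ext (congrArg (fun z => ((z.1 : (P : Subgroup G)) : G)) e)
  · rintro ⟨⟨q, hq⟩, hqc⟩
    rcases D.cases hq with ⟨j, -, rfl⟩ | ⟨j, -, rfl⟩
    · exact ⟨⟨_, Subgroup.npow_mem_zpowers σ j⟩, rfl⟩
    · exfalso
      change σ ^ j * τ * σ ^ i = σ ^ i * (σ ^ j * τ) at hqc
      rw [mul_assoc, D.mul_τ, ← mul_assoc, ← mul_assoc, (Commute.pow_pow_self σ i j).eq] at hqc
      have h3 : (σ ^ i)⁻¹ = σ ^ i := mul_left_cancel (mul_right_cancel hqc)
      exact hJ (D.eq_J_of_sq (inv_eq_iff_mul_eq_one.mp h3) h1)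

theorem cardComm_refl (i : ℕ) : cardComm P (σ ^ i * τ) = 4 := by
  classical
  have hpos := D.h_pos
  haveI := Fintype.ofFinite (P : Subgroup G)
  have hJ1 : σ ^ h ≠ 1 := fun e => by have := D.orderOf_J; rw [e, orderOf_one] at this; omega
  have hJc : σ ^ h * (σ ^ i * τ) = σ ^ i * τ * σ ^ h := by
    rw [mul_assoc (σ ^ i), D.mul_τ, D.J_inv, ← mul_assoc, ← mul_assoc,
      (Commute.pow_pow_self σ h i).eq]
  set r : (P : Subgroup G) := ⟨σ ^ i * τ, D.refl_mem i⟩ with hr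
  set J : (P : Subgroup G) := ⟨σ ^ h, D.J_mem⟩ with hJ
  rw [cardComm, Nat.card_eq_fintype_card, Fintype.card_subtype]
  suffices hs : (Finset.univ.filter fun q : (P : Subgroup G) =>
      (q : G) * (σ ^ i * τ) = σ ^ i * τ * q) = {1, J, r, J * r} by
    rw [hs]
    refine Finset.card_eq_four.mpr ⟨1, J, r, J * r, ?_, ?_, ?_, ?_, ?_, ?_, rfl⟩
    · exact fun e => hJ1 (congrArg Subtype.val e).symm
    · exact fun e => D.refl_ne_pow i 0 (by simpa [hr] using (congrArg Subtype.val e).symm)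
    · intro e
      have : σ ^ (h + i) * τ = σ ^ 0 := by
        rw [pow_zero, pow_add, mul_assoc]; exact (congrArg Subtype.val e).symm
      exact D.refl_ne_pow _ _ this
    · exact fun e => D.refl_ne_pow i h (congrArg Subtype.val e).symm
    · exact fun e => D.refl_ne_pow i 0 (by simpa [hr] using congrArg Subtype.val (mul_eq_left.mp e.symm))
    · exact fun e => hJ1 (congrArg Subtype.val (mul_eq_right.mp e.symm) :)
  ext q
  simp only [Finset.mem_filter, Finset.mem_univ, true_and, Finset.mem_insert, Finset.mem_singleton]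
  constructor
  · intro hq
    rcases D.cases q.2 with ⟨j, -, hj⟩ | ⟨j, -, hj⟩
    · rw [hj, mul_assoc (σ ^ i), D.mul_τ, ← mul_assoc, ← mul_assoc,
        (Commute.pow_pow_self σ j i).eq] at hq
      have h3 := inv_eq_iff_mul_eq_one.mp (mul_left_cancel (mul_right_cancel hq)).symm
      by_cases h4 : σ ^ j = 1
      · exact Or.inl (Subtype.ext (hj.trans h4))
      · exact Or.inr (Or.inl (Subtype.ext (hj.trans (D.eq_J_of_sq h3 h4))))
    · set d : G := σ ^ j * (σ ^ i)⁻¹ with hd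
      have hqd : (q : G) = d * (σ ^ i * τ) := by rw [hd, hj]; group
      rw [hqd] at hq
      have hdc : d * (σ ^ i * τ) = σ ^ i * τ * d := by
        apply mul_right_cancel (b := σ ^ i * τ)
        rw [hq]
        simp only [mul_assoc]
      have hdz : ∃ k < 2 * h, d = σ ^ k := by
        refine ⟨(j + (2 * h - i % (2 * h))) % (2 * h), Nat.mod_lt _ (by omega), ?_⟩
        rw [← D.pow_mod, hd, pow_add, D.pow_mod i]
        congr 1
        refine inv_eq_of_mul_eq_one_right ?_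
        rw [← pow_add, Nat.add_sub_cancel' (Nat.mod_lt _ (by omega)).le, D.pow_two_h]
      obtain ⟨k, -, hk⟩ := hdz
      rw [hk, mul_assoc (σ ^ i), D.mul_τ, ← mul_assoc, ← mul_assoc,
        (Commute.pow_pow_self σ k i).eq] at hdc
      have h3 := inv_eq_iff_mul_eq_one.mp (mul_left_cancel (mul_right_cancel hdc)).symm
      by_cases h4 : σ ^ k = 1
      · exact Or.inr (Or.inr (Or.inl (Subtype.ext (by rw [hqd, hk, h4, one_mul]))))
      · refine Or.inr (Or.inr (Or.inr (Subtype.ext ?_)))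
        rw [hqd, hk, D.eq_J_of_sq h3 h4]
        rfl
  · rintro (rfl | rfl | rfl | rfl)
    · simp
    · exact hJc
    · rfl
    · show σ ^ h * (σ ^ i * τ) * (σ ^ i * τ) = σ ^ i * τ * (σ ^ h * (σ ^ i * τ))
      rw [← mul_assoc (σ ^ i * τ) (σ ^ h), ← hJc]

/-- Rotations fuse only to their inverses. -/
theorem fusion {i j : ℕ} (hi : σ ^ i ≠ 1) (hc : IsConj (σ ^ i) (σ ^ j)) :
    σ ^ j = σ ^ i ∨ σ ^ j = (σ ^ i)⁻¹ := by
  haveI : Fact (Nat.Prime 2) := ⟨Nat.prime_two⟩
  obtain ⟨m, hm⟩ := D.exists_pow_J hi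
  obtain ⟨g, hg⟩ := isConj_iff.mp hc
  have hgJ : g * σ ^ h * g⁻¹ = σ ^ h := by
    have h1 : (σ ^ j) ^ m = g * σ ^ h * g⁻¹ := by rw [← hg, conj_pow, hm]
    have ho : orderOf (g * σ ^ h * g⁻¹) = 2 :=
      (orderOf_injective (MulAut.conj g).toMonoidHom (MulAut.conj g).injective _).trans D.orderOf_J
    rw [← h1, ← pow_mul] at ho ⊢
    have h2 : σ ^ (j * m) * σ ^ (j * m) = 1 := by
      have := pow_orderOf_eq_one (σ ^ (j * m))
      rwa [ho, pow_two] at this
    refine D.eq_J_of_sq h2 fun e => ?_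
    rw [e, orderOf_one] at ho
    omega
  set C := Subgroup.centralizer ({σ ^ h} : Set G) with hC
  obtain ⟨Q, N, hN, -, hcompl, -, hmem⟩ :
      ∃ (Q : Sylow 2 C) (N : Subgroup C), N.Normal ∧ ¬ 2 ∣ Nat.card N ∧
        (Q : Subgroup C).IsComplement' N ∧ 4 * h * Nat.card N = Nat.card C ∧
        ∀ c, c ∈ (Q : Subgroup C) ↔ (c : G) ∈ (P : Subgroup G) := D.exists_local
  haveI := hN
  let g' : C := ⟨g, Subgroup.mem_centralizer_singleton_iff.mpr (mul_inv_eq_iff_eq_mul.mp hgJ)⟩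
  let u : C := ⟨σ ^ i, D.P_le_centralizer (pow_mem D.mem_σ i)⟩
  let w : C := ⟨σ ^ j, D.P_le_centralizer (pow_mem D.mem_σ j)⟩
  obtain ⟨⟨q, n⟩, hqn, -⟩ := hcompl.existsUnique g'
  simp only at hqn
  have hwu : w = g' * u * g'⁻¹ := Subtype.ext hg.symm
  have hq' : (q : C) * u * (q : C)⁻¹ ∈ (Q : Subgroup C) :=
    mul_mem (mul_mem q.2 ((hmem u).mpr (pow_mem D.mem_σ i))) (inv_mem q.2)
  have key := eq_of_div_mem hcompl ((hmem w).mpr (pow_mem D.mem_σ j)) hq' (by
    rw [hwu, ← hqn, show (q : C) * n * u * ((q : C) * n)⁻¹ * ((q : C) * u * (q : C)⁻¹)⁻¹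
      = (q : C) * ((n : C) * (u * (n : C)⁻¹ * u⁻¹)) * (q : C)⁻¹ by group]
    exact hN.conj_mem _ (mul_mem n.2 (hN.conj_mem _ (inv_mem n.2) u)) _)
  have key' : σ ^ j = ((q : C) : G) * σ ^ i * ((q : C) : G)⁻¹ := congrArg Subtype.val key
  rcases D.cases ((hmem q).mp q.2) with ⟨k, -, hk⟩ | ⟨k, -, hk⟩
  · left
    rw [key', hk, (Commute.pow_pow_self σ k i).eq, mul_inv_cancel_right]
  · right
    rw [key', hk, show σ ^ k * τ * σ ^ i * (σ ^ k * τ)⁻¹
      = σ ^ k * (τ * σ ^ i * τ⁻¹) * (σ ^ k)⁻¹ by group, D.conj_pow_σ,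
      ((Commute.pow_pow_self σ k i).inv_right).eq, mul_inv_cancel_right]

theorem ordProj_centralizer {i : ℕ} (h1 : σ ^ i ≠ 1) :
    ordProj[2] (Nat.card (Subgroup.centralizer ({σ ^ i} : Set G))) = cardComm P (σ ^ i) := by
  haveI : Fact (Nat.Prime 2) := ⟨Nat.prime_two⟩
  obtain ⟨m, hm⟩ := D.exists_pow_J h1
  set C := Subgroup.centralizer ({σ ^ h} : Set G) with hC
  obtain ⟨Q, N, hN, hNo, hcompl, -, hmem⟩ :
      ∃ (Q : Sylow 2 C) (N : Subgroup C), N.Normal ∧ ¬ 2 ∣ Nat.card N ∧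
        (Q : Subgroup C).IsComplement' N ∧ 4 * h * Nat.card N = Nat.card C ∧
        ∀ c, c ∈ (Q : Subgroup C) ↔ (c : G) ∈ (P : Subgroup G) := D.exists_local
  haveI := hN
  let u : C := ⟨σ ^ i, D.P_le_centralizer (pow_mem D.mem_σ i)⟩
  rw [show σ ^ i = (u : G) from rfl, ordProj_eq (v := u) rfl hcompl hNo
    ((hmem u).mpr (pow_mem D.mem_σ i)) (m := m) hm, cardComm]
  exact Nat.card_congr
    { toFun := fun q => ⟨⟨((q.1 : C) : G), (hmem _).mp q.1.2⟩, congrArg Subtype.val q.2⟩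
      invFun := fun q => ⟨⟨⟨(q.1 : G), D.P_le_centralizer q.1.2⟩, (hmem _).mpr q.1.2⟩,
        Subtype.ext q.2⟩
      left_inv := fun q => rfl
      right_inv := fun q => rfl }

/-- A reflection outside the class of the central involution has small centralizer 2-part. -/
theorem ordProj_refl_le {i : ℕ} (hnc : ¬ IsConj (σ ^ h) (σ ^ i * τ)) :
    ordProj[2] (Nat.card (Subgroup.centralizer ({σ ^ i * τ} : Set G))) ≤ 4 := by
  classical
  haveI : Fact (Nat.Prime 2) := ⟨Nat.prime_two⟩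
  set r := σ ^ i * τ with hr
  set C := Subgroup.centralizer ({r} : Set G) with hC
  obtain ⟨S⟩ : Nonempty (Sylow 2 C) := inferInstance
  set S' : Subgroup G := (S : Subgroup C).map C.subtype with hS'
  have hrp : IsPGroup 2 (Subgroup.zpowers r) :=
    IsPGroup.of_card (n := 1) (by rw [Nat.card_zpowers, hr, D.orderOf_refl, pow_one])
  have hle : S' ≤ Subgroup.normalizer (Subgroup.zpowers r : Set G) := by
    rintro _ ⟨s, -, rfl⟩
    refine Subgroup.centralizer_le_normalizer _ (Subgroup.mem_centralizer_iff.mpr fun y hy => ?_)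
    obtain ⟨k, rfl⟩ := Subgroup.mem_zpowers_iff.mp hy
    exact ((show Commute (s : G) r from Subgroup.mem_centralizer_singleton_iff.mp s.2).zpow_right
      k).eq.symm
  obtain ⟨T, hT⟩ := ((S.isPGroup'.map C.subtype).to_sup_of_normal_right' hrp hle).exists_le_sylow
  obtain ⟨a, ha⟩ := MulAction.exists_smul_eq G T P
  have hP : ∀ x ∈ S' ⊔ Subgroup.zpowers r, a * x * a⁻¹ ∈ (P : Subgroup G) := by
    intro x hx
    rw [← ha, Sylow.coe_subgroup_smul]
    exact ⟨x, hT hx, rfl⟩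
  have hrP := hP r (Subgroup.mem_sup_right (Subgroup.mem_zpowers r))
  have ho : orderOf (a * r * a⁻¹) = 2 :=
    (orderOf_injective (MulAut.conj a).toMonoidHom (MulAut.conj a).injective _).trans
      (D.orderOf_refl i)
  rcases D.involution_cases hrP ho with e | ⟨j, -, hj⟩
  · exact absurd (isConj_iff.mpr ⟨a, e⟩).symm hnc
  rw [← S.card_eq_multiplicity, ← D.cardComm_refl j, cardComm]
  refine Nat.card_le_card_of_injective (fun s => ⟨⟨a * ((s : C) : G) * a⁻¹,
    hP _ (Subgroup.mem_sup_left ⟨s, s.2, rfl⟩)⟩, ?_⟩) fun x y e => ?_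
  · have hc := Subgroup.mem_centralizer_singleton_iff.mp (s : C).2
    show a * ((s : C) : G) * a⁻¹ * (σ ^ j * τ) = σ ^ j * τ * (a * ((s : C) : G) * a⁻¹)
    rw [← hj]
    calc a * ((s : C) : G) * a⁻¹ * (a * r * a⁻¹) = a * (((s : C) : G) * r) * a⁻¹ := by group
      _ = _ := by rw [hc]; group
  · exact Subtype.ext (Subtype.ext ((MulAut.conj a).injective
      (congrArg (fun z => ((z.1 : (P : Subgroup G)) : G)) e)))

end Dih

end Cfsg.Agent.DihBlock
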