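import Cfsg.Agent.S0944
import Cfsg.Agent.DihBlock.Setup
import Cfsg.Agent.Char.InvolutionCount

/-!
# Restriction of the principal block to the rotations
-/

set_option autoImplicit false
set_option linter.unusedSectionVars false
set_option linter.style.haveILetI false

open scoped ComplexConjugate
open Cfsg

namespace Cfsg.Agent.DihBlock

/-- The additive character `x ↦ ζ ^ x` of `ZMod n`. -/
noncomputable def E {n : ℕ} (ζ : ℂ) (x : ZMod n) : ℂ := ζ ^ x.val

section E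

variable {n : ℕ} [NeZero n] {ζ : ℂ} (hζ : IsPrimitiveRoot ζ n)
include hζ

theorem E_natCast (m : ℕ) : E ζ (m : ZMod n) = ζ ^ m := by
  rw [E, ZMod.val_natCast, hζ.eq_orderOf, pow_mod_orderOf]

theorem E_zero : E ζ (0 : ZMod n) = 1 := by rw [E, ZMod.val_zero, pow_zero]

theorem E_add (x y : ZMod n) : E ζ (x + y) = E ζ x * E ζ y := by
  obtain ⟨a, rfl⟩ := ZMod.natCast_zmod_surjective x
  obtain ⟨b, rfl⟩ := ZMod.natCast_zmod_surjective y
  rw [← Nat.cast_add, E_natCast hζ, E_natCast hζ, E_natCast hζ, pow_add]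

theorem E_neg (x : ZMod n) : E ζ (-x) = (E ζ x)⁻¹ :=
  eq_inv_of_mul_eq_one_left (by rw [← E_add hζ, neg_add_cancel, E_zero hζ])

theorem E_conj (x : ZMod n) : conj (E ζ x) = E ζ (-x) := by
  rw [E_neg hζ, E, map_pow, Complex.inv_def, Complex.normSq_eq_norm_sq, norm_pow,
    Complex.norm_eq_one_of_pow_eq_one hζ.pow_eq_one (NeZero.ne n), map_pow]
  simp

theorem sum_E_mul (a : ZMod n) : ∑ x : ZMod n, E ζ (a * x) = if a = 0 then (n : ℂ) else 0 := by
  split_ifs with h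
  · subst h
    simp [E_zero hζ]
  · set S := ∑ x : ZMod n, E ζ (a * x)
    have h1 : E ζ a * S = S := by
      rw [Finset.mul_sum]
      refine Fintype.sum_equiv (Equiv.addRight (1 : ZMod n)) _ _ fun x => ?_
      rw [← E_add hζ, Equiv.coe_addRight, mul_add, mul_one, add_comm]
    by_contra hS
    have h2 : E ζ a = 1 := (mul_eq_right₀ hS).mp h1
    refine h ((ZMod.val_eq_zero a).mp (hζ.pow_inj (ZMod.val_lt a) (NeZero.pos n) ?_))
    rw [pow_zero]; exact h2

theorem sum_E_mul' (a : ZMod n) : ∑ x : ZMod n, E ζ (x * a) = if a = 0 then (n : ℂ) else 0 := by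
  rw [← sum_E_mul hζ a]
  exact Finset.sum_congr rfl fun x _ => by rw [mul_comm]

theorem exists_E_eq {e : ℂ} (he : e ^ n = 1) : ∃ x : ZMod n, e = E ζ x := by
  obtain ⟨m, -, hm⟩ := hζ.eq_pow_of_pow_eq_one he
  exact ⟨m, by rw [E_natCast hζ]; exact hm.symm⟩

end E

/-- `[a = b] + [a = -b]`. -/
def pairDelta {n : ℕ} (a b : ZMod n) : ℤ := (if a = b then 1 else 0) + if a = -b then 1 else 0

/-- The splitting of a sum over `ZMod (2 h)` by the pairs `±j`. -/
theorem sum_zmod_split {h : ℕ} (hh : 2 ≤ h) {β : Type*} [AddCommGroup β] [NeZero (2 * h)]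
    (f : ZMod (2 * h) → β) :
    ∑ j, f j = f 0 + f (h : ℕ) + (f ((1 : ℕ) : ZMod (2 * h)) + f (-((1 : ℕ) : ZMod (2 * h))))
      + ∑ k ∈ Finset.Ico 2 h, (f (k : ℕ) + f (-(k : ℕ))) := by
  classical
  have h1 : ∑ j, f j = ∑ m ∈ Finset.range (2 * h), f (m : ℕ) := by
    symm
    refine Finset.sum_nbij (fun m => ((m : ℕ) : ZMod (2 * h))) (fun _ _ => Finset.mem_univ _) ?_ ?_
      (fun _ _ => rfl)
    · intro a ha b hb e
      have := congrArg ZMod.val e
      rwa [ZMod.val_cast_of_lt (Finset.mem_range.mp ha),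
        ZMod.val_cast_of_lt (Finset.mem_range.mp hb)] at this
    · intro x _
      exact ⟨x.val, Finset.mem_range.mpr (ZMod.val_lt x), ZMod.natCast_zmod_val x⟩
  have h2 : ∑ m ∈ Finset.Ico (h + 1) (2 * h), f (m : ℕ) = ∑ k ∈ Finset.Ico 1 h, f (-(k : ℕ)) := by
    refine Finset.sum_nbij' (fun m => 2 * h - m) (fun k => 2 * h - k) ?_ ?_ ?_ ?_ ?_
    · intro a ha; simp only [Finset.mem_coe, Finset.mem_Ico] at *; omega
    · intro a ha; simp only [Finset.mem_coe, Finset.mem_Ico] at *; omega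
    · intro a ha; simp only [Finset.mem_coe, Finset.mem_Ico] at *; omega
    · intro a ha; simp only [Finset.mem_coe, Finset.mem_Ico] at *; omega
    · intro a ha
      simp only [Finset.mem_coe, Finset.mem_Ico] at ha
      rw [Nat.cast_sub (by omega), ZMod.natCast_self, zero_sub, neg_neg]
  rw [h1, Finset.range_eq_Ico, ← Finset.sum_Ico_consecutive _ (Nat.zero_le 1) (by omega : 1 ≤ 2 * h),
    ← Finset.sum_Ico_consecutive _ (by omega : 1 ≤ 2) (by omega : 2 ≤ 2 * h),
    ← Finset.sum_Ico_consecutive _ (by omega : 2 ≤ h) (by omega : h ≤ 2 * h),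
    ← Finset.sum_Ico_consecutive _ (by omega : h ≤ h + 1) (by omega : h + 1 ≤ 2 * h), h2,
    ← Finset.sum_Ico_consecutive _ (by omega : 1 ≤ 2) (by omega : 2 ≤ h), Finset.sum_add_distrib]
  simp only [Nat.Ico_succ_singleton, Finset.sum_singleton, Nat.cast_zero,
    show Finset.Ico (0 : ℕ) 1 = {0} from rfl, show Finset.Ico (1 : ℕ) 2 = {1} from rfl]
  abel

universe u

variable {G : Type u} [Group G] [Fintype G] {P : Sylow 2 G} {σ τ : G} {h : ℕ}

/-- `σ ^ x` for `x : ZMod (2 h)`. -/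
def pw (σ : G) (x : ZMod (2 * h)) : G := σ ^ x.val

namespace Dih

variable (D : Dih P σ τ h) [NeZero (2 * h)]
include D

theorem pw_natCast (m : ℕ) : pw (h := h) σ (m : ZMod (2 * h)) = σ ^ m := by
  rw [pw, ZMod.val_natCast, ← D.pow_mod]

theorem pw_neg (x : ZMod (2 * h)) : pw σ (-x) = (pw σ x)⁻¹ := by
  obtain ⟨m, rfl⟩ := ZMod.natCast_zmod_surjective x
  obtain ⟨m', hm'⟩ := ZMod.natCast_zmod_surjective (-(m : ZMod (2 * h)))
  rw [← hm', D.pw_natCast, D.pw_natCast]
  refine eq_inv_of_mul_eq_one_left ?_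
  rw [← pow_add, D.pow_eq_one_iff, ← ZMod.natCast_eq_zero_iff, Nat.cast_add, hm', neg_add_cancel]

theorem pw_eq_one {x : ZMod (2 * h)} : pw σ x = 1 ↔ x = 0 := by
  rw [pw, D.pow_eq_one_iff, ← ZMod.natCast_eq_zero_iff, ZMod.natCast_zmod_val]

theorem pw_inj {x y : ZMod (2 * h)} (e : pw σ x = pw σ y) : x = y :=
  ZMod.val_injective _ (D.pow_inj (ZMod.val_lt x) (ZMod.val_lt y) e)

theorem chi_inv {χ : IrrCharacter G} (i : ℕ) :
    (χ : G → ℂ) (σ ^ i)⁻¹ = (χ : G → ℂ) (σ ^ i) := by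
  rw [← D.conj_pow_σ i, Char.irr_isClassFunction χ.2]

theorem chi_real (χ : IrrCharacter G) (x : ZMod (2 * h)) :
    conj ((χ : G → ℂ) (pw σ x)) = (χ : G → ℂ) (pw σ x) := by
  rw [← Char.irr_inv χ.2, pw, D.chi_inv]

theorem chi_neg (χ : IrrCharacter G) (x : ZMod (2 * h)) :
    (χ : G → ℂ) (pw σ (-x)) = (χ : G → ℂ) (pw σ x) := by
  rw [D.pw_neg, pw, D.chi_inv]

variable {ζ : ℂ} (hζ : IsPrimitiveRoot ζ (2 * h))
include hζ

theorem exists_mult (χ : IrrCharacter G) :
    ∃ a : ZMod (2 * h) → ℤ, ∀ x, (χ : G → ℂ) (pw σ x) = ∑ j, (a j : ℂ) * E ζ (j * x) := by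
  classical
  obtain ⟨n, ρ, -, hρ⟩ := χ.2
  obtain ⟨ε, hε, hsum⟩ := Char.exists_character_eq_sum_roots ρ σ
  rw [D.order] at hε
  choose e he using fun i => exists_E_eq hζ (hε i)
  refine ⟨fun j => ((Finset.univ.filter fun i => e i = j).card : ℤ), fun x => ?_⟩
  rw [← hρ, pw, hsum x.val]
  have hterm : ∀ i, ε i ^ x.val = E ζ (e i * x) := by
    intro i
    conv_rhs => rw [← ZMod.natCast_zmod_val (e i), ← ZMod.natCast_zmod_val x, ← Nat.cast_mul,
      E_natCast hζ, pow_mul]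
    rw [he i]; rfl
  rw [Finset.sum_congr rfl fun i _ => hterm i, ← Finset.sum_fiberwise Finset.univ e]
  refine Finset.sum_congr rfl fun j _ => ?_
  rw [Finset.sum_congr rfl (g := fun _ => E ζ (j * x))
    (fun i hi => by rw [(Finset.mem_filter.mp hi).2]), Finset.sum_const, nsmul_eq_mul]
  push_cast
  rfl

/-- The multiplicities of the linear characters in the restriction to the rotations. -/
noncomputable def mult (χ : IrrCharacter G) : ZMod (2 * h) → ℤ := (D.exists_mult hζ χ).choose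

/-- The differences with the multiplicity of the character `1`. -/
noncomputable def bd (χ : IrrCharacter G) (j : ZMod (2 * h)) : ℤ :=
  D.mult hζ χ j - D.mult hζ χ ((1 : ℕ) : ZMod (2 * h))

theorem mult_spec (χ : IrrCharacter G) (x : ZMod (2 * h)) :
    (χ : G → ℂ) (pw σ x) = ∑ j, (D.mult hζ χ j : ℂ) * E ζ (j * x) :=
  (D.exists_mult hζ χ).choose_spec x

theorem mult_inversion (χ : IrrCharacter G) (j : ZMod (2 * h)) :
    ((2 * h : ℕ) : ℂ) * (D.mult hζ χ j : ℂ) = ∑ x, (χ : G → ℂ) (pw σ x) * E ζ (-(j * x)) := by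
  simp only [D.mult_spec hζ, Finset.sum_mul, mul_assoc, ← E_add hζ]
  rw [Finset.sum_comm, Finset.sum_eq_single j]
  · rw [← Finset.mul_sum, Finset.sum_congr rfl (g := fun _ => (1 : ℂ))
      (fun x _ => by rw [add_neg_cancel, E_zero hζ]), Finset.sum_const, Finset.card_univ, ZMod.card,
      nsmul_one, mul_comm]
  · intro i _ hij
    rw [← Finset.mul_sum, Finset.sum_congr rfl (g := fun x => E ζ ((i - j) * x))
      (fun x _ => by rw [sub_mul, sub_eq_add_neg]), sum_E_mul hζ,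
      if_neg (sub_ne_zero.mpr hij), mul_zero]
  · exact fun h => (h (Finset.mem_univ j)).elim

theorem mult_neg (χ : IrrCharacter G) (j : ZMod (2 * h)) :
    D.mult hζ χ (-j) = D.mult hζ χ j := by
  have h2 : ((2 * h : ℕ) : ℂ) ≠ 0 := Nat.cast_ne_zero.mpr (NeZero.ne _)
  have h1 : ((2 * h : ℕ) : ℂ) * (D.mult hζ χ (-j) : ℂ) = ((2 * h : ℕ) : ℂ) * D.mult hζ χ j := by
    rw [D.mult_inversion hζ, D.mult_inversion hζ]
    refine Fintype.sum_equiv (Equiv.neg _) _ _ fun x => ?_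
    rw [Equiv.neg_apply, D.chi_neg, neg_mul, mul_neg]
  exact_mod_cast mul_left_cancel₀ h2 h1

theorem bd_one (χ : IrrCharacter G) : D.bd hζ χ ((1 : ℕ) : ZMod (2 * h)) = 0 := sub_self _

theorem bd_neg (χ : IrrCharacter G) (j : ZMod (2 * h)) : D.bd hζ χ (-j) = D.bd hζ χ j := by
  rw [bd, bd, D.mult_neg]

theorem value_bd (χ : IrrCharacter G) {x : ZMod (2 * h)} (hx : x ≠ 0) :
    (χ : G → ℂ) (pw σ x) = ∑ j, (D.bd hζ χ j : ℂ) * E ζ (j * x) := by
  simp only [bd, Int.cast_sub, sub_mul, Finset.sum_sub_distrib, ← Finset.mul_sum]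
  rw [sum_E_mul' hζ, if_neg hx, mul_zero, sub_zero, D.mult_spec hζ]

theorem bd_inversion (χ : IrrCharacter G) (j : ZMod (2 * h)) :
    ((2 * h : ℕ) : ℂ) * (D.bd hζ χ j : ℂ) = ∑ x, (χ : G → ℂ) (pw σ x) *
      (E ζ (-(j * x)) - E ζ (-(((1 : ℕ) : ZMod (2 * h)) * x))) := by
  simp only [bd, Int.cast_sub, mul_sub, Finset.sum_sub_distrib, D.mult_inversion hζ]

theorem bd_trivial_zero : D.bd hζ (Char.trivialIrr G) 0 = 1 := by
  have h2 : ((2 * h : ℕ) : ℂ) ≠ 0 := Nat.cast_ne_zero.mpr (NeZero.ne _)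
  have h1 := D.bd_inversion hζ (Char.trivialIrr G) 0
  simp only [show ∀ g, ((Char.trivialIrr G : IrrCharacter G) : G → ℂ) g = 1 from fun _ => rfl,
    one_mul, zero_mul, neg_zero, E_zero hζ, Finset.sum_sub_distrib, Finset.sum_const,
    Finset.card_univ, ZMod.card, nsmul_one, ← neg_mul] at h1
  rw [sum_E_mul hζ, if_neg, sub_zero] at h1
  · have := mul_left_cancel₀ h2 (h1.trans (mul_one _).symm)
    exact_mod_cast this
  · rw [neg_eq_zero, ZMod.natCast_eq_zero_iff, Nat.dvd_one]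
    omega

theorem bd_trivial_of_ne {j : ZMod (2 * h)} (hj : j ≠ 0) :
    D.bd hζ (Char.trivialIrr G) j = 0 := by
  have h2 : ((2 * h : ℕ) : ℂ) ≠ 0 := Nat.cast_ne_zero.mpr (NeZero.ne _)
  have h1 := D.bd_inversion hζ (Char.trivialIrr G) j
  simp only [show ∀ g, ((Char.trivialIrr G : IrrCharacter G) : G → ℂ) g = 1 from fun _ => rfl,
    one_mul, Finset.sum_sub_distrib, ← neg_mul] at h1
  rw [sum_E_mul hζ, sum_E_mul hζ, if_neg (by rwa [neg_eq_zero]), if_neg, sub_zero] at h1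
  · exact_mod_cast (mul_eq_zero.mp h1).resolve_left h2
  · rw [neg_eq_zero, ZMod.natCast_eq_zero_iff, Nat.dvd_one]
    omega

variable {M : Ideal AlgInt}

open scoped Classical in
theorem col_pw (hM : IsPModular 2 M) {x y : ZMod (2 * h)} (hx : x ≠ 0) (hy : y ≠ 0) :
    ∑ χ ∈ pb M G, (χ : G → ℂ) (pw σ x) * conj ((χ : G → ℂ) (pw σ y))
      = ((2 * h : ℕ) : ℂ) * ((if y = x then 1 else 0) + if y = -x then 1 else 0) := by
  have h1 : σ ^ x.val ≠ 1 := fun e => hx (D.pw_eq_one.mp e)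
  obtain ⟨k, hk⟩ := D.exists_orderOf (pow_mem D.mem_σ x.val)
  obtain ⟨l, hl⟩ := D.exists_orderOf (pow_mem D.mem_σ y.val)
  have hcol := col hM (v := pw σ x) (w := pw σ y) hk hl (D.hasComplement hk h1)
  rw [hcol]
  have hiff : IsConj (pw σ x) (pw σ y) ↔ y = x ∨ y = -x := by
    constructor
    · intro hc
      rcases D.fusion h1 hc with e | e
      · exact Or.inl (D.pw_inj e)
      · exact Or.inr (D.pw_inj (by rw [D.pw_neg]; exact e))
    · rintro (rfl | rfl)
      · exact IsConj.refl _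
      · rw [D.pw_neg, pw]
        exact isConj_iff.mpr ⟨τ, D.conj_pow_σ _⟩
  by_cases hc : IsConj (pw σ x) (pw σ y)
  · rw [if_pos hc, show pw σ x = σ ^ x.val from rfl, D.ordProj_centralizer h1]
    have hJiff : σ ^ x.val = σ ^ h ↔ x = -x := by
      rw [eq_neg_iff_add_eq_zero]
      constructor
      · intro e
        rw [show x = ((h : ℕ) : ZMod (2 * h)) from D.pw_inj (e.trans (D.pw_natCast h).symm),
          ← Nat.cast_add, ← two_mul, ZMod.natCast_self]
      · intro e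
        refine D.eq_J_of_sq ?_ h1
        rw [← pow_add, D.pow_eq_one_iff, ← ZMod.natCast_eq_zero_iff, Nat.cast_add,
          ZMod.natCast_zmod_val, e]
    by_cases hJ : σ ^ x.val = σ ^ h
    · rw [hJ, D.cardComm_J]
      have e := hJiff.mp hJ
      have hyx : y = x := (hiff.mp hc).elim id fun h' => h'.trans e.symm
      rw [if_pos hyx, if_pos (hyx.trans e)]
      push_cast; ring
    · rw [D.cardComm_pow h1 hJ]
      have e : x ≠ -x := fun e => hJ (hJiff.mpr e)
      rcases hiff.mp hc with r | r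
      · rw [if_pos r, if_neg (fun h' => e (r.symm.trans h'))]; push_cast; ring
      · rw [if_neg (fun h' => e (h'.symm.trans r)), if_pos r]; push_cast; ring
  · rw [if_neg hc]
    rw [hiff, not_or] at hc
    rw [if_neg hc.1, if_neg hc.2]
    simp

/-- The inner products of the vectors `bd · j`. -/
theorem gram (hM : IsPModular 2 M) (j k : ZMod (2 * h)) :
    ∑ χ ∈ pb M G, D.bd hζ χ j * D.bd hζ χ k
      = pairDelta j k - pairDelta j ((1 : ℕ) : ZMod (2 * h))
        - pairDelta ((1 : ℕ) : ZMod (2 * h)) k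
        + pairDelta ((1 : ℕ) : ZMod (2 * h)) ((1 : ℕ) : ZMod (2 * h)) := by
  classical
  set o : ZMod (2 * h) := ((1 : ℕ) : ZMod (2 * h))
  set N : ℂ := ((2 * h : ℕ) : ℂ) with hN
  have h2 : N ≠ 0 := Nat.cast_ne_zero.mpr (NeZero.ne _)
  set f : ZMod (2 * h) → ZMod (2 * h) → ℂ :=
    fun j x => E ζ (-(j * x)) - E ζ (-(o * x)) with hf
  have hf0 : ∀ j, f j 0 = 0 := fun j => by simp [hf, E_zero hζ]
  have hb : ∀ (χ : IrrCharacter G) (i : ZMod (2 * h)),
      N * (D.bd hζ χ i : ℂ) = ∑ x, (χ : G → ℂ) (pw σ x) * f i x := fun χ i => D.bd_inversion hζ χ i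
  have hbc : ∀ (χ : IrrCharacter G) (i : ZMod (2 * h)),
      N * (D.bd hζ χ i : ℂ) = ∑ x, conj ((χ : G → ℂ) (pw σ x)) * conj (f i x) := by
    intro χ i
    calc N * (D.bd hζ χ i : ℂ) = conj (N * (D.bd hζ χ i : ℂ)) := by
          rw [map_mul, hN, map_natCast, map_intCast]
      _ = _ := by
          rw [hb, map_sum]
          exact Finset.sum_congr rfl fun x _ => map_mul _ _ _
  have hmain : N * N * ∑ χ ∈ pb M G, ((D.bd hζ χ j * D.bd hζ χ k : ℤ) : ℂ)
      = N * ∑ x, f j x * (conj (f k x) + conj (f k (-x))) := by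
    refine Eq.trans ?_ (?_ : ∑ χ ∈ pb M G, (∑ x, (χ : G → ℂ) (pw σ x) * f j x) *
      (∑ y, conj ((χ : G → ℂ) (pw σ y)) * conj (f k y))
        = N * ∑ x, f j x * (conj (f k x) + conj (f k (-x))))
    · rw [Finset.mul_sum]
      refine Finset.sum_congr rfl fun χ _ => ?_
      rw [← hb, ← hbc]
      push_cast
      ring
    simp only [Finset.sum_mul_sum]
    rw [Finset.sum_comm, Finset.mul_sum]
    refine Finset.sum_congr rfl fun x _ => ?_
    rw [Finset.sum_comm]
    by_cases hx : x = 0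
    · subst hx
      simp [hf0]
    have hy : ∀ y, ∑ χ ∈ pb M G, (χ : G → ℂ) (pw σ x) * f j x *
        (conj ((χ : G → ℂ) (pw σ y)) * conj (f k y))
        = f j x * conj (f k y) * (N * ((if y = x then 1 else 0) + if y = -x then 1 else 0)) := by
      intro y
      by_cases hy0 : y = 0
      · subst hy0
        simp [hf0]
      rw [hN, ← D.col_pw hζ hM hx hy0, Finset.mul_sum]
      exact Finset.sum_congr rfl fun χ _ => by ring
    simp only [hy, mul_add, Finset.sum_add_distrib, mul_ite, mul_one, mul_zero, Finset.sum_ite_eq',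
      Finset.mem_univ, if_true]
    ring
  have hsum : ∑ x, f j x * (conj (f k x) + conj (f k (-x)))
      = N * ((pairDelta j k - pairDelta j o - pairDelta o k + pairDelta o o : ℤ) : ℂ) := by
    simp only [hf, map_sub, E_conj hζ, neg_neg, mul_neg, sub_mul, mul_add, mul_sub,
      Finset.sum_add_distrib, Finset.sum_sub_distrib, ← E_add hζ, ← neg_mul, ← add_mul,
      sum_E_mul hζ, pairDelta, ← neg_add, neg_eq_zero, add_eq_zero_iff_eq_neg, neg_inj,
      Int.cast_sub, Int.cast_add, Int.cast_ite, Int.cast_one, Int.cast_zero, mul_ite, mul_one,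
      mul_zero, hN]
    ring
  rw [hsum, mul_assoc] at hmain
  have h3 := mul_left_cancel₀ h2 (mul_left_cancel₀ h2 hmain)
  rw [← Int.cast_sum] at h3
  exact_mod_cast h3

theorem sum_bd_regular (hM : IsPModular 2 M) (j : ZMod (2 * h)) {ρ : G} (hρ : ¬ 2 ∣ orderOf ρ) :
    ∑ χ ∈ pb M G, (D.bd hζ χ j : ℂ) * (χ : G → ℂ) ρ = 0 := by
  have h2 : ((2 * h : ℕ) : ℂ) ≠ 0 := Nat.cast_ne_zero.mpr (NeZero.ne _)
  refine mul_left_cancel₀ h2 ?_
  rw [mul_zero, Finset.mul_sum]
  simp only [← mul_assoc, D.bd_inversion hζ, Finset.sum_mul]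
  rw [Finset.sum_comm]
  refine Finset.sum_eq_zero fun x _ => ?_
  by_cases hx : x = 0
  · subst hx
    simp [E_zero hζ]
  obtain ⟨k, hk⟩ := D.exists_orderOf (pow_mem D.mem_σ x.val)
  have hcol := col_regular' hM (v := pw σ x) hk (fun e => hx (D.pw_eq_one.mp e)) hρ
  simp only [D.chi_real] at hcol
  rw [← mul_zero (E ζ (-(j * x)) - E ζ (-(((1 : ℕ) : ZMod (2 * h)) * x))), ← hcol, Finset.mul_sum]
  exact Finset.sum_congr rfl fun χ _ => by ring

end Dih

end Cfsg.Agent.DihBlock
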