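import Mathlib

/-!
# Integer vectors with the inner products of the dihedral principal block
-/

set_option autoImplicit false

namespace Cfsg.Agent.DihBlock

variable {ι : Type*} [DecidableEq ι]

/-- An integral vector of square norm at most three has entries `0, 1, -1`. -/
theorem pm_support {B : Finset ι} {f : ι → ℤ} {n : ℕ} (hn : n ≤ 3)
    (hf : ∑ i ∈ B, f i * f i = n) :
    (∀ i ∈ B, f i = 0 ∨ f i = 1 ∨ f i = -1) ∧ (B.filter fun i => f i ≠ 0).card = n := by
  have h1 : ∀ i ∈ B, f i = 0 ∨ f i = 1 ∨ f i = -1 := by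
    intro i hi
    have h := Finset.single_le_sum (f := fun j => f j * f j) (fun j _ => mul_self_nonneg (f j)) hi
    rw [hf] at h
    have h' : f i * f i ≤ 3 := h.trans (by exact_mod_cast hn)
    have h2 : f i ≤ 1 := by nlinarith
    have h3 : -1 ≤ f i := by nlinarith
    omega
  refine ⟨h1, ?_⟩
  have h2 : ∑ i ∈ B, f i * f i = ∑ i ∈ B, if f i ≠ 0 then (1 : ℤ) else 0 :=
    Finset.sum_congr rfl fun i hi => by rcases h1 i hi with e | e | e <;> simp [e]
  rw [h2, Finset.sum_boole] at hf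
  exact_mod_cast hf

theorem sum_support {B : Finset ι} {R : Type*} [CommRing R] (f : ι → ℤ) (g : ι → R) :
    ∑ i ∈ B, (f i : R) * g i = ∑ i ∈ B.filter fun i => f i ≠ 0, (f i : R) * g i :=
  (Finset.sum_filter_of_ne (p := fun i => f i ≠ 0) fun i _ hi h0 => hi (by
    rw [show f i = 0 from h0, Int.cast_zero, zero_mul])).symm

theorem one_of_two {a b c d : ℤ} (ha : a = 1 ∨ a = -1) (hb : b = 1 ∨ b = -1)
    (hc : c = 0 ∨ c = 1 ∨ c = -1) (hd : d = 0 ∨ d = 1 ∨ d = -1) (h : a * c + b * d = 1) :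
    (c = 0 ∧ d = b) ∨ (d = 0 ∧ c = a) := by
  rcases ha with rfl | rfl <;> rcases hb with rfl | rfl <;> rcases hc with rfl | rfl | rfl <;>
    rcases hd with rfl | rfl | rfl <;> omega

set_option maxHeartbeats 1000000 in
/-- The configuration forced by the inner products. -/
theorem vectors {κ : Type*} (B : Finset ι) {T : ι} (hT : T ∈ B) (x : ι → ℤ)
    (hx : ∀ i ∈ B, 0 < x i) (hxT : x T = 1) (u w : ι → ℤ) (v : κ → ι → ℤ)
    (huT : u T = 1) (hwT : w T = 0) (hvT : ∀ k, v k T = 0)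
    (huu : ∑ i ∈ B, u i * u i = 3) (hww : ∑ i ∈ B, w i * w i = 3)
    (hvv : ∀ k, ∑ i ∈ B, v k i * v k i = 2) (huw : ∑ i ∈ B, u i * w i = 1)
    (huv : ∀ k, ∑ i ∈ B, u i * v k i = 1) (hwv : ∀ k, ∑ i ∈ B, w i * v k i = 1)
    (hvv' : ∀ k k', k ≠ k' → ∑ i ∈ B, v k i * v k' i = 1)
    (hud : ∑ i ∈ B, u i * x i = 0) (hwd : ∑ i ∈ B, w i * x i = 0)
    (hvd : ∀ k, ∑ i ∈ B, v k i * x i = 0) (hκ : ∀ k : κ, ∃ k', k' ≠ k) :
    ∃ (A X C₂ C₃ : ι) (Z : κ → ι) (α e₂ e₃ : ℤ), (α = 1 ∨ α = -1) ∧ (e₂ = 1 ∨ e₂ = -1) ∧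
      (e₃ = 1 ∨ e₃ = -1) ∧ A ∈ B ∧ X ∈ B ∧ C₂ ∈ B ∧ C₃ ∈ B ∧ (∀ k, Z k ∈ B) ∧
      A ≠ T ∧ X ≠ T ∧ C₂ ≠ T ∧ C₃ ≠ T ∧ A ≠ X ∧ A ≠ C₂ ∧ A ≠ C₃ ∧ X ≠ C₂ ∧ X ≠ C₃ ∧ C₂ ≠ C₃ ∧
      (∀ k, Z k ≠ T ∧ Z k ≠ A ∧ Z k ≠ X ∧ Z k ≠ C₂ ∧ Z k ≠ C₃) ∧ Function.Injective Z ∧
      (∀ i ∈ B, u i = (if i = T then 1 else 0) + (if i = A then α else 0)
        + (if i = X then -α else 0)) ∧
      (∀ i ∈ B, w i = (if i = X then -α else 0) + (if i = C₂ then e₂ else 0)
        + (if i = C₃ then e₃ else 0)) ∧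
      (∀ k, ∀ i ∈ B, v k i = (if i = X then -α else 0) + (if i = Z k then α else 0)) ∧
      x X = x A + α := by
  obtain ⟨hu1, huc⟩ := pm_support (n := 3) le_rfl (by exact_mod_cast huu)
  obtain ⟨hw1, hwc⟩ := pm_support (n := 3) le_rfl (by exact_mod_cast hww)
  have hv := fun k => pm_support (n := 2) (by norm_num) (by exact_mod_cast hvv k)
  -- the support of `u`
  set Su := B.filter fun i => u i ≠ 0 with hSu
  have hTS : T ∈ Su := Finset.mem_filter.mpr ⟨hT, by rw [huT]; norm_num⟩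
  obtain ⟨A₀, X₀, hne₀, hAX₀⟩ := Finset.card_eq_two.mp
    (show (Su.erase T).card = 2 by rw [Finset.card_erase_of_mem hTS, huc])
  have hsumU : ∀ {A X : ι}, Su.erase T = {A, X} → A ≠ X → ∀ g : ι → ℤ,
      ∑ i ∈ B, u i * g i = g T + u A * g A + u X * g X := by
    intro A X he hne g
    have := sum_support (B := B) u g
    simp only [Int.cast_id] at this
    rw [this, ← Finset.add_sum_erase _ _ hTS, huT, one_mul, he, Finset.sum_pair hne, add_assoc]
  -- choose `X` in the support of `w`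
  obtain ⟨A, X, hne, hAX, hwA, hwX⟩ : ∃ A X : ι, A ≠ X ∧ Su.erase T = {A, X} ∧ w A = 0 ∧
      w X = u X := by
    have h := hsumU hAX₀ hne₀ w
    rw [huw, hwT, zero_add] at h
    have hA : A₀ ∈ Su.erase T := by rw [hAX₀]; simp
    have hX : X₀ ∈ Su.erase T := by rw [hAX₀]; simp
    simp only [hSu, Finset.mem_erase, Finset.mem_filter] at hA hX
    rcases one_of_two ((hu1 A₀ hA.2.1).resolve_left hA.2.2) ((hu1 X₀ hX.2.1).resolve_left hX.2.2)
      (hw1 A₀ hA.2.1) (hw1 X₀ hX.2.1) h.symm with ⟨c, d⟩ | ⟨d, c⟩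
    · exact ⟨A₀, X₀, hne₀, hAX₀, c, d⟩
    · exact ⟨X₀, A₀, hne₀.symm, hAX₀.trans (Finset.pair_comm _ _), d, c⟩
  have hmA : A ∈ Su.erase T := by rw [hAX]; simp
  have hmX : X ∈ Su.erase T := by rw [hAX]; simp
  simp only [hSu, Finset.mem_erase, Finset.mem_filter] at hmA hmX
  obtain ⟨hAT, hAB, hA0⟩ := hmA
  obtain ⟨hXT, hXB, hX0⟩ := hmX
  set α := u A
  set β := u X
  have hα : α = 1 ∨ α = -1 := (hu1 A hAB).resolve_left hA0
  have hβ : β = 1 ∨ β = -1 := (hu1 X hXB).resolve_left hX0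
  have hdegU : 1 + α * x A + β * x X = 0 := by
    rw [← hxT, ← hsumU hAX hne x, hud]
  -- the support of `w`
  set Sw := B.filter fun i => w i ≠ 0 with hSw
  have hXSw : X ∈ Sw := Finset.mem_filter.mpr ⟨hXB, by rw [hwX]; exact hX0⟩
  obtain ⟨C₂, C₃, hC, hCC⟩ := Finset.card_eq_two.mp
    (show (Sw.erase X).card = 2 by rw [Finset.card_erase_of_mem hXSw, hwc])
  have hsumW : ∀ g : ι → ℤ, ∑ i ∈ B, w i * g i = β * g X + w C₂ * g C₂ + w C₃ * g C₃ := by
    intro g
    have := sum_support (B := B) w g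
    simp only [Int.cast_id] at this
    rw [this, ← Finset.add_sum_erase _ _ hXSw, hwX, hCC, Finset.sum_pair hC, add_assoc]
  have hm2 : C₂ ∈ Sw.erase X := by rw [hCC]; simp
  have hm3 : C₃ ∈ Sw.erase X := by rw [hCC]; simp
  simp only [hSw, Finset.mem_erase, Finset.mem_filter] at hm2 hm3
  obtain ⟨hC2X, hC2B, hC20⟩ := hm2
  obtain ⟨hC3X, hC3B, hC30⟩ := hm3
  have he2 : w C₂ = 1 ∨ w C₂ = -1 := (hw1 C₂ hC2B).resolve_left hC20
  have he3 : w C₃ = 1 ∨ w C₃ = -1 := (hw1 C₃ hC3B).resolve_left hC30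
  have hdegW : β * x X + w C₂ * x C₂ + w C₃ * x C₃ = 0 := by rw [← hsumW x, hwd]
  -- every `v` has two opposite entries
  have hvshape : ∀ k, ∃ (R S : ι) (s : ℤ), (s = 1 ∨ s = -1) ∧ R ∈ B ∧ S ∈ B ∧ R ≠ S ∧
      x R = x S ∧ v k R = s ∧ v k S = -s ∧ (∀ i ∈ B, i ≠ R → i ≠ S → v k i = 0) ∧
      ((R = X ∧ s = β ∧ v k A = 0) ∨ (R = A ∧ s = α ∧ v k X = 0)) := by
    intro k
    obtain ⟨hv1, hvc⟩ := hv k
    have h := hsumU hAX hne (v k)
    rw [huv k, hvT, zero_add] at h
    have hsel : ∃ R, (R = X ∧ v k X = β ∧ v k A = 0) ∨ (R = A ∧ v k A = α ∧ v k X = 0) := by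
      rcases one_of_two hα hβ (hv1 A hAB) (hv1 X hXB) h.symm with ⟨c, d⟩ | ⟨d, c⟩
      · exact ⟨X, Or.inl ⟨rfl, d, c⟩⟩
      · exact ⟨A, Or.inr ⟨rfl, c, d⟩⟩
    obtain ⟨R, hR⟩ := hsel
    obtain ⟨s, hs, hRB, hRs⟩ : ∃ s, (s = 1 ∨ s = -1) ∧ R ∈ B ∧ v k R = s := by
      rcases hR with ⟨rfl, e, -⟩ | ⟨rfl, e, -⟩
      · exact ⟨β, hβ, hXB, e⟩
      · exact ⟨α, hα, hAB, e⟩
    have hRS : R ∈ B.filter fun i => v k i ≠ 0 :=
      Finset.mem_filter.mpr ⟨hRB, by rw [hRs]; rcases hs with rfl | rfl <;> norm_num⟩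
    obtain ⟨S, hS⟩ := Finset.card_eq_one.mp
      (show ((B.filter fun i => v k i ≠ 0).erase R).card = 1 by
        rw [Finset.card_erase_of_mem hRS, hvc])
    have hmS : S ∈ (B.filter fun i => v k i ≠ 0).erase R := by rw [hS]; simp
    simp only [Finset.mem_erase, Finset.mem_filter] at hmS
    obtain ⟨hSR, hSB, hS0⟩ := hmS
    have hd := sum_support (B := B) (v k) x
    simp only [Int.cast_id] at hd
    rw [hvd k, ← Finset.add_sum_erase _ _ hRS, hS, Finset.sum_singleton, hRs] at hd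
    have hxR := hx R hRB
    have hxS := hx S hSB
    have hSs : v k S = -s ∧ x R = x S := by
      rcases hs with rfl | rfl <;> rcases (hv1 S hSB).resolve_left hS0 with e | e <;>
        rw [e] at hd ⊢ <;> constructor <;> omega
    refine ⟨R, S, s, hs, hRB, hSB, hSR.symm, hSs.2, hRs, hSs.1, fun i hi h1 h2 => ?_, ?_⟩
    · by_contra h0
      have : i ∈ (B.filter fun i => v k i ≠ 0).erase R :=
        Finset.mem_erase.mpr ⟨h1, Finset.mem_filter.mpr ⟨hi, h0⟩⟩
      rw [hS] at this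
      exact h2 (Finset.mem_singleton.mp this)
    · rcases hR with ⟨rfl, e, e'⟩ | ⟨rfl, e, e'⟩
      · exact Or.inl ⟨rfl, hRs.symm.trans e, e'⟩
      · exact Or.inr ⟨rfl, hRs.symm.trans e, e'⟩
  choose R S s hs hRB hSB hRS hxRS hvR hvS hvz hcase using hvshape
  have hsumV : ∀ k (g : ι → ℤ), ∑ i ∈ B, v k i * g i = s k * g (R k) + -s k * g (S k) := by
    intro k g
    rw [← Finset.sum_subset (s₁ := {R k, S k})
      (fun i hi => by
        rcases Finset.mem_insert.mp hi with rfl | hi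
        · exact hRB k
        · rw [Finset.mem_singleton.mp hi]; exact hSB k)
      (fun i hi hni => by
        simp only [Finset.mem_insert, Finset.mem_singleton, not_or] at hni
        rw [hvz k i hi hni.1 hni.2, zero_mul]),
      Finset.sum_pair (hRS k), hvR, hvS]
  have hwv' : ∀ k, w (R k) * s k - w (S k) * s k = 1 := by
    intro k
    have h := hsumV k w
    rw [show ∑ i ∈ B, v k i * w i = 1 by
      rw [← hwv k]; exact Finset.sum_congr rfl fun i _ => mul_comm _ _] at h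
    linarith
  -- no vector meets `A`
  have hgood : ∀ k, R k = X ∧ s k = β ∧ v k A = 0 := by
    intro k
    refine (hcase k).resolve_right ?_
    rintro ⟨hRA, hsα, hkX⟩
    have hwS : w (S k) = -α := by
      have := hwv' k
      rw [hRA, hwA, hsα] at this
      rcases hα with a | a <;> rw [a] at this ⊢ <;> linarith
    obtain ⟨k', hk'⟩ := hκ k
    have hin := hsumV k (v k')
    rw [hvv' k k' hk'.symm, hRA, hsα] at hin
    rcases hcase k' with ⟨hR', hs', hA'⟩ | ⟨hR', hs', hX'⟩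
    · -- mixed
      rw [hA', mul_zero, zero_add] at hin
      have hSk : S k = R k' ∨ S k = S k' := by
        by_contra hcon
        push Not at hcon
        rw [hvz k' _ (hSB k) hcon.1 hcon.2, mul_zero] at hin
        exact one_ne_zero hin
      rcases hSk with e | e
      · rw [hR'] at e
        have := hvS k
        rw [e, hkX, hsα] at this
        rcases hα with a | a <;> rw [a] at this <;> norm_num at this
      · rw [e, hvS, hs'] at hin
        have hxA : x A = x X := by rw [← hRA, hxRS k, e, ← hxRS k', hR']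
        have := hx A hAB
        rcases hα with a | a <;> rcases hβ with b | b <;> rw [a, b] at hin hdegU <;> omega
    · -- two vectors through `A`
      have hAk' : v k' A = α := by rw [← hR', hvR k', hs']
      rw [hAk'] at hin
      have hwS' : w (S k') = -α := by
        have := hwv' k'
        rw [hR', hwA, hs'] at this
        rcases hα with a | a <;> rw [a] at this ⊢ <;> linarith
      have hne' : S k ≠ S k' := by
        intro e
        rw [e, hvS, hs'] at hin
        rcases hα with a | a <;> rw [a] at hin <;> norm_num at hin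
      have hSX : S k ≠ X := fun e => by
        have := hvS k
        rw [e, hkX, hsα] at this
        rcases hα with a | a <;> rw [a] at this <;> norm_num at this
      have hSX' : S k' ≠ X := fun e => by
        have := hvS k'
        rw [e, hX', hs'] at this
        rcases hα with a | a <;> rw [a] at this <;> norm_num at this
      have hmem : ∀ i ∈ B, i ≠ X → w i ≠ 0 → i = C₂ ∨ i = C₃ := by
        intro i hi hiX hi0
        have : i ∈ Sw.erase X := Finset.mem_erase.mpr ⟨hiX, Finset.mem_filter.mpr ⟨hi, hi0⟩⟩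
        rw [hCC] at this
        simpa using this
      have h0 : -α ≠ 0 := by rcases hα with a | a <;> rw [a] <;> norm_num
      have hxS : x (S k) = x A := by rw [← hxRS k, hRA]
      have hxS' : x (S k') = x A := by rw [← hxRS k', hR']
      have := hx A hAB
      rcases hmem _ (hSB k) hSX (hwS ▸ h0) with e | e <;>
        rcases hmem _ (hSB k') hSX' (hwS' ▸ h0) with e' | e'
      · exact hne' (e.trans e'.symm)
      · rw [← e, ← e', hwS, hwS', hxS, hxS'] at hdegW
        rcases hα with a | a <;> rcases hβ with b | b <;> rw [a, b] at hdegW hdegU <;> omega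
      · rw [← e, ← e', hwS, hwS', hxS, hxS'] at hdegW
        rcases hα with a | a <;> rcases hβ with b | b <;> rw [a, b] at hdegW hdegU <;> omega
      · exact hne' (e.trans e'.symm)
  -- the sign of `X`
  have hβα : β = -α := by
    have := hx A hAB
    have := hx X hXB
    rcases hα with a | a <;> rcases hβ with b | b <;> rw [a, b] at hdegU ⊢ <;> omega
  have hC2T : C₂ ≠ T := fun e => hC20 (e ▸ hwT)
  have hC3T : C₃ ≠ T := fun e => hC30 (e ▸ hwT)
  have hAC2 : A ≠ C₂ := fun e => hC20 (e ▸ hwA)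
  have hAC3 : A ≠ C₃ := fun e => hC30 (e ▸ hwA)
  have hvSβ : ∀ k, v k (S k) = α := fun k => by rw [hvS, (hgood k).2.1, hβα, neg_neg]
  have hSw0 : ∀ k, w (S k) = 0 := fun k => by
    have := hwv' k
    rw [(hgood k).1, hwX, (hgood k).2.1] at this
    rcases hβ with b | b <;> rw [b] at this <;> linarith
  refine ⟨A, X, C₂, C₃, S, α, w C₂, w C₃, hα, he2, he3, hAB, hXB, hC2B, hC3B, hSB, hAT, hXT, hC2T,
    hC3T, hne, hAC2, hAC3, hC2X.symm, hC3X.symm, hC, fun k => ⟨?_, ?_, ?_, ?_, ?_⟩, ?_, ?_, ?_, ?_,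
    ?_⟩
  · intro e
    have := hvSβ k
    rw [e, hvT] at this
    rcases hα with a | a <;> rw [a] at this <;> norm_num at this
  · intro e
    have := hvSβ k
    rw [e, (hgood k).2.2] at this
    rcases hα with a | a <;> rw [a] at this <;> norm_num at this
  · exact fun e => hRS k ((hgood k).1.trans e.symm)
  · exact fun e => hC20 (e ▸ hSw0 k)
  · exact fun e => hC30 (e ▸ hSw0 k)
  · intro k k' e
    by_contra hkk
    have h := hsumV k (v k')
    rw [hvv' k k' hkk, (hgood k).1, ← (hgood k').1, hvR, e, hvS, (hgood k).2.1,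
      (hgood k').2.1] at h
    rcases hβ with b | b <;> rw [b] at h <;> norm_num at h
  · intro i hi
    by_cases h1 : i = T
    · subst h1; simp [huT, hAT.symm, hXT.symm]
    by_cases h2 : i = A
    · subst h2; simp [hAT, hne]; rfl
    by_cases h3 : i = X
    · subst h3; simp [hXT, hne.symm]; exact hβα
    have : u i = 0 := by
      by_contra h0
      have : i ∈ Su.erase T := Finset.mem_erase.mpr ⟨h1, Finset.mem_filter.mpr ⟨hi, h0⟩⟩
      rw [hAX] at this
      simp [h2, h3] at this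
    simp [this, h1, h2, h3]
  · intro i hi
    by_cases h1 : i = X
    · subst h1; simp [hwX, hC2X.symm, hC3X.symm, hβα]
    by_cases h2 : i = C₂
    · subst h2; simp [hC2X, hC]
    by_cases h3 : i = C₃
    · subst h3; simp [hC3X, hC.symm]
    have : w i = 0 := by
      by_contra h0
      have : i ∈ Sw.erase X := Finset.mem_erase.mpr ⟨h1, Finset.mem_filter.mpr ⟨hi, h0⟩⟩
      rw [hCC] at this
      simp [h2, h3] at this
    simp [this, h1, h2, h3]
  · intro k i hi
    have hXS : X ≠ S k := fun e => hRS k ((hgood k).1.trans e)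
    by_cases h1 : i = X
    · subst h1
      rw [if_pos rfl, if_neg hXS, add_zero, ← hβα, ← (hgood k).2.1, ← hvR k, (hgood k).1]
    by_cases h2 : i = S k
    · subst h2
      rw [if_neg h1, if_pos rfl, zero_add, hvSβ]
    rw [if_neg h1, if_neg h2, add_zero, hvz k i hi (by rw [(hgood k).1]; exact h1) h2]
  · rcases hα with a | a <;> rw [hβα, a] at hdegU <;> rw [a] <;> omega

end Cfsg.Agent.DihBlock
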