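import Cfsg.Agent.DihBlock.Rot
import Cfsg.Agent.DihBlock.Vectors

/-!
# The principal 2-block for a dihedral Sylow 2-subgroup
-/

set_option autoImplicit false
set_option linter.unusedSectionVars false
set_option linter.style.haveILetI false

open scoped ComplexConjugate
open Cfsg

namespace Cfsg.Agent.DihBlock

universe u

variable {G : Type u} [Group G] [Fintype G] {P : Sylow 2 G} {σ τ : G} {h : ℕ} {M : Ideal AlgInt}

theorem zmod_cast_eq_iff {n a b : ℕ} (ha : a < n) (hb : b < n) :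
    (a : ZMod n) = b ↔ a = b := by
  refine ⟨fun e => ?_, fun e => by rw [e]⟩
  have := congrArg ZMod.val e
  rwa [ZMod.val_cast_of_lt ha, ZMod.val_cast_of_lt hb] at this

theorem zmod_cast_eq_neg_iff {n a b : ℕ} (ha : a < n) (hb : b < n) :
    (a : ZMod n) = -(b : ZMod n) ↔ a + b = 0 ∨ a + b = n := by
  rw [eq_neg_iff_add_eq_zero, ← Nat.cast_add, ZMod.natCast_eq_zero_iff]
  constructor
  · rintro ⟨c, hc⟩
    rcases c with - | - | c
    · exact Or.inl (by simpa using hc)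
    · exact Or.inr (by simpa using hc)
    · have : n * 2 ≤ n * (c + 1 + 1) := Nat.mul_le_mul_left n (by omega)
      omega
  · rintro (e | e) <;> rw [e]
    exact dvd_zero _

theorem primitiveRoot_pow_half {ζ : ℂ} {h : ℕ} (hh : 0 < h) (hζ : IsPrimitiveRoot ζ (2 * h)) :
    ζ ^ h = -1 := by
  have h1 : (ζ ^ h) ^ 2 = 1 := by rw [← pow_mul, mul_comm, hζ.pow_eq_one]
  refine (sq_eq_one_iff.mp h1).resolve_left fun e => ?_
  have := Nat.le_of_dvd hh (hζ.dvd_of_pow_eq_one h e)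
  omega

namespace Dih

set_option maxHeartbeats 1000000 in
/-- The principal block: degrees are not recorded, values on rotations and relations on regular
elements are. -/
theorem block_structure (D : Dih P σ τ h) (hh : 2 ≤ h) (hM : IsPModular 2 M) {ζ : ℂ}
    (hζ : IsPrimitiveRoot ζ (2 * h)) :
    ∃ (χ₁ χ₂ χ₃ : IrrCharacter G) (χ' : Fin (h - 1) → IrrCharacter G) (δ₁ δ₂ δ₃ : ℤ),
      (δ₁ = 1 ∨ δ₁ = -1) ∧ (δ₂ = 1 ∨ δ₂ = -1) ∧ (δ₃ = 1 ∨ δ₃ = -1) ∧ Function.Injective χ' ∧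
      χ₁ ≠ Char.trivialIrr G ∧ χ₂ ≠ Char.trivialIrr G ∧ χ₃ ≠ Char.trivialIrr G ∧
      χ₁ ≠ χ₂ ∧ χ₁ ≠ χ₃ ∧ χ₂ ≠ χ₃ ∧
      (∀ j, χ' j ≠ χ₁ ∧ χ' j ≠ χ₂ ∧ χ' j ≠ χ₃ ∧ χ' j ≠ Char.trivialIrr G) ∧
      (∀ χ, χ ∈ pb M G ↔ χ = Char.trivialIrr G ∨ χ = χ₁ ∨ χ = χ₂ ∨ χ = χ₃ ∨ ∃ j, χ = χ' j) ∧
      (∀ l : ℕ, 0 < l → l < 2 * h → (χ₁ : G → ℂ) (σ ^ l) = δ₁ ∧
        (χ₂ : G → ℂ) (σ ^ l) = δ₂ * (-1) ^ (l + 1) ∧
        (χ₃ : G → ℂ) (σ ^ l) = δ₃ * (-1) ^ (l + 1) ∧
        ∀ j : Fin (h - 1), (χ' j : G → ℂ) (σ ^ l)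
          = δ₁ * (ζ ^ (((j : ℕ) + 1) * l) + (ζ ^ (((j : ℕ) + 1) * l))⁻¹)) ∧
      ∀ ρ : G, ¬ 2 ∣ orderOf ρ → ∀ j : Fin (h - 1),
        1 + δ₁ * (χ₁ : G → ℂ) ρ = -δ₂ * (χ₂ : G → ℂ) ρ - δ₃ * (χ₃ : G → ℂ) ρ ∧
        1 + δ₁ * (χ₁ : G → ℂ) ρ = δ₁ * (χ' j : G → ℂ) ρ := by
  classical
  haveI : Fact (Nat.Prime 2) := ⟨Nat.prime_two⟩
  haveI : NeZero (2 * h) := ⟨by omega⟩
  have heven : Even h := by
    obtain ⟨a, rfl⟩ := D.pow2
    rcases a with - | a
    · norm_num at hh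
    · exact ⟨2 ^ a, by ring⟩
  let b : IrrCharacter G → ℕ → ℤ := fun χ j => D.bd hζ χ (j : ZMod (2 * h))
  let κ := {k : ℕ // k ∈ Finset.Ico 2 h}
  have hg : ∀ a c : ℕ, a ≤ h → a ≠ 1 → c ≤ h → c ≠ 1 →
      ∑ χ ∈ pb M G, b χ a * b χ c
        = (if a = c then (if a = 0 ∨ a = h then 2 else 1) else 0) + 1 := by
    intro a c ha ha1 hc hc1
    rw [D.gram hζ hM]
    simp only [pairDelta, zmod_cast_eq_iff (by omega : a < 2 * h) (by omega : c < 2 * h),
      zmod_cast_eq_neg_iff (by omega : a < 2 * h) (by omega : c < 2 * h),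
      zmod_cast_eq_iff (by omega : a < 2 * h) (by omega : 1 < 2 * h),
      zmod_cast_eq_neg_iff (by omega : a < 2 * h) (by omega : 1 < 2 * h),
      zmod_cast_eq_iff (by omega : 1 < 2 * h) (by omega : c < 2 * h),
      zmod_cast_eq_neg_iff (by omega : 1 < 2 * h) (by omega : c < 2 * h),
      zmod_cast_eq_neg_iff (by omega : 1 < 2 * h) (by omega : 1 < 2 * h), false_or, Nat.add_eq_zero_iff, one_ne_zero, and_false, false_and]
    split_ifs <;> omega
  have hx0 : ∀ χ : IrrCharacter G, (χ : G → ℂ) 1 = ((charDegree (χ : G → ℂ) : ℤ) : ℂ) := fun χ => by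
    rw [(Char.irr_charDegree_spec χ.2).2]; push_cast; rfl
  have hdeg : ∀ a : ℕ, ∑ χ ∈ pb M G, b χ a * (charDegree (χ : G → ℂ) : ℤ) = 0 := by
    intro a
    have h1 := D.sum_bd_regular hζ hM (a : ZMod (2 * h)) (ρ := 1) (by rw [orderOf_one]; norm_num)
    simp only [hx0] at h1
    exact_mod_cast h1
  have hκmem : ∀ k : κ, 2 ≤ k.1 ∧ k.1 < h := fun k => Finset.mem_Ico.mp k.2
  have hTb : ∀ a : ℕ, a ≠ 0 → a < 2 * h → b (Char.trivialIrr G) a = 0 := fun a ha ha' =>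
    D.bd_trivial_of_ne hζ (fun e => ha ((zmod_cast_eq_iff ha' (by omega : 0 < 2 * h)).mp
      (by rw [Nat.cast_zero]; exact e)))
  obtain ⟨A, X, C₂, C₃, Z, α, e₂, e₃, hα, he₂, he₃, hA, hX, hC₂, hC₃, hZ, hAT, hXT, hC₂T, hC₃T,
      hAX, hAC₂, hAC₃, hXC₂, hXC₃, hC₂₃, hZd, hZi, hu, hw, hv, -⟩ :=
    vectors (κ := κ) (pb M G) (trivial_mem_pb hM) (fun χ => (charDegree (χ : G → ℂ) : ℤ))
      (fun χ _ => Int.natCast_pos.mpr (Char.irr_charDegree_spec χ.2).1)
      (by show (charDegree (((Char.trivialIrr G) : IrrCharacter G) : G → ℂ) : ℤ) = 1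
          simp [Char.trivialIrr, charDegree])
      (fun χ => b χ 0) (fun χ => b χ h) (fun k χ => b χ k.1)
      (by show D.bd hζ (Char.trivialIrr G) ((0 : ℕ) : ZMod (2 * h)) = 1
          rw [Nat.cast_zero]; exact D.bd_trivial_zero hζ)
      (hTb h (by omega) (by omega))
      (fun k => hTb k.1 (by have := hκmem k; omega) (by have := hκmem k; omega))
      (by rw [hg 0 0 (by omega) (by omega) (by omega) (by omega)]; simp)
      (by rw [hg h h le_rfl (by omega) le_rfl (by omega)]; simp)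
      (fun k => by
        have := hκmem k
        rw [hg k.1 k.1 (by omega) (by omega) (by omega) (by omega), if_pos rfl,
          if_neg (by omega)]
        norm_num)
      (by rw [hg 0 h (by omega) (by omega) le_rfl (by omega), if_neg (by omega)]; norm_num)
      (fun k => by
        have := hκmem k
        rw [hg 0 k.1 (by omega) (by omega) (by omega) (by omega), if_neg (by omega)]
        norm_num)
      (fun k => by
        have := hκmem k
        rw [hg h k.1 le_rfl (by omega) (by omega) (by omega), if_neg (by omega)]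
        norm_num)
      (fun k k' hne => by
        have := hκmem k
        have := hκmem k'
        rw [hg k.1 k'.1 (by omega) (by omega) (by omega) (by omega),
          if_neg fun e => hne (Subtype.ext e)]
        norm_num)
      (hdeg 0) (hdeg h) (fun k => hdeg k.1)
      (fun k => by
        have h2 := hκmem k
        have h4 : 4 ≤ h := by
          obtain ⟨a, rfl⟩ := D.pow2
          rcases a with - | - | a
          · norm_num at h2; omega
          · norm_num at h2; omega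
          · have := Nat.one_le_two_pow (n := a)
            rw [pow_succ, pow_succ]; omega
        refine ⟨⟨if k.1 = 2 then 3 else 2, Finset.mem_Ico.mpr (by split_ifs <;> omega)⟩, fun e => ?_⟩
        have := congrArg Subtype.val e
        simp only at this
        split_ifs at this <;> omega)
  -- values on the rotations
  let θ : ℕ → ℕ → ℂ := fun k l => ζ ^ (k * l) + (ζ ^ (k * l))⁻¹
  have hEl : ∀ k l : ℕ, E ζ ((k : ZMod (2 * h)) * (l : ZMod (2 * h))) = ζ ^ (k * l) := fun k l => by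
    rw [← Nat.cast_mul, E_natCast hζ]
  have hval : ∀ (χ : IrrCharacter G) (l : ℕ), 0 < l → l < 2 * h → (χ : G → ℂ) (σ ^ l)
      = (b χ 0 : ℂ) + (b χ h : ℂ) * (-1) ^ l + ∑ k ∈ Finset.Ico 2 h, (b χ k : ℂ) * θ k l := by
    intro χ l hl0 hl
    have hne : (l : ZMod (2 * h)) ≠ 0 := by
      rw [← Nat.cast_zero, Ne, zmod_cast_eq_iff hl (by omega)]; omega
    rw [← D.pw_natCast l, D.value_bd hζ χ hne, sum_zmod_split hh]
    simp only [D.bd_neg hζ, D.bd_one hζ, Int.cast_zero, zero_mul, add_zero, neg_mul, E_neg hζ,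
      hEl, zero_mul, E_zero hζ, mul_one, ← mul_add, pow_mul, primitiveRoot_pow_half (by omega) hζ]
    simp only [b, θ, Nat.cast_zero, pow_mul]
  have hzero : ∀ l : ℕ, 0 < l → l < 2 * h →
      1 + (-1 : ℂ) ^ l + θ 1 l + ∑ k ∈ Finset.Ico 2 h, θ k l = 0 := by
    intro l hl0 hl
    have hne : (l : ZMod (2 * h)) ≠ 0 := by
      rw [← Nat.cast_zero, Ne, zmod_cast_eq_iff hl (by omega)]; omega
    have h1 := sum_E_mul' hζ (l : ZMod (2 * h))
    rw [if_neg hne, sum_zmod_split hh] at h1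
    simp only [zero_mul, E_zero hζ, neg_mul, E_neg hζ, hEl] at h1
    rw [← h1, pow_mul, primitiveRoot_pow_half (by omega) hζ]
  have hvu := fun i (hi : i ∈ pb M G) => hu i hi
  have hvk : ∀ χ ∈ pb M G, ∀ k (hk : k ∈ Finset.Ico 2 h),
      b χ k = (if χ = X then -α else 0) + if χ = Z ⟨k, hk⟩ then α else 0 :=
    fun χ hχ k hk => hv ⟨k, hk⟩ χ hχ
  have hA' : ∀ l, 0 < l → l < 2 * h → (A : G → ℂ) (σ ^ l) = α := by
    intro l hl0 hl
    rw [hval A l hl0 hl, hu A hA, hw A hA, Finset.sum_eq_zero]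
    · simp [hAT, hAX, hAC₂, hAC₃]
    · intro k hk
      rw [hvk A hA k hk, if_neg hAX, if_neg (fun e => (hZd ⟨k, hk⟩).2.1 e.symm)]
      simp
  have hC₂' : ∀ l, 0 < l → l < 2 * h → (C₂ : G → ℂ) (σ ^ l) = e₂ * (-1) ^ l := by
    intro l hl0 hl
    rw [hval C₂ l hl0 hl, hu C₂ hC₂, hw C₂ hC₂, Finset.sum_eq_zero]
    · simp [hC₂T, hAC₂.symm, hXC₂.symm, hC₂₃]
    · intro k hk
      rw [hvk C₂ hC₂ k hk, if_neg hXC₂.symm, if_neg (fun e => (hZd ⟨k, hk⟩).2.2.2.1 e.symm)]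
      simp
  have hC₃' : ∀ l, 0 < l → l < 2 * h → (C₃ : G → ℂ) (σ ^ l) = e₃ * (-1) ^ l := by
    intro l hl0 hl
    rw [hval C₃ l hl0 hl, hu C₃ hC₃, hw C₃ hC₃, Finset.sum_eq_zero]
    · simp [hC₃T, hAC₃.symm, hXC₃.symm, hC₂₃.symm]
    · intro k hk
      rw [hvk C₃ hC₃ k hk, if_neg hXC₃.symm, if_neg (fun e => (hZd ⟨k, hk⟩).2.2.2.2 e.symm)]
      simp
  have hX' : ∀ l, 0 < l → l < 2 * h → (X : G → ℂ) (σ ^ l) = α * θ 1 l := by
    intro l hl0 hl
    rw [hval X l hl0 hl, hu X hX, hw X hX,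
      Finset.sum_congr rfl (g := fun k => -(α : ℂ) * θ k l) (fun k hk => by
        rw [hvk X hX k hk, if_pos rfl, if_neg (fun e => (hZd ⟨k, hk⟩).2.2.1 e.symm)]
        push_cast; ring),
      ← Finset.mul_sum]
    simp only [hXT, hAX.symm, hXC₂, hXC₃, if_true, if_false, add_zero, zero_add, Int.cast_neg]
    linear_combination (-(α : ℂ)) * hzero l hl0 hl
  have hZ' : ∀ (k : κ) (l : ℕ), 0 < l → l < 2 * h → (Z k : G → ℂ) (σ ^ l) = α * θ k.1 l := by
    intro k l hl0 hl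
    obtain ⟨d1, d2, d3, d4, d5⟩ := hZd k
    rw [hval (Z k) l hl0 hl, hu _ (hZ k), hw _ (hZ k), Finset.sum_eq_single k.1]
    · rw [hvk _ (hZ k) k.1 k.2, if_neg d3, if_pos rfl]
      simp [d1, d2, d3, d4, d5]
    · intro k' hk' hne
      rw [hvk _ (hZ k) k' hk', if_neg d3,
        if_neg (fun e => hne (congrArg Subtype.val (hZi e)).symm)]
      simp
    · exact fun hcon => (hcon k.2).elim
  have hother : ∀ χ ∈ pb M G, χ ≠ (Char.trivialIrr G) → χ ≠ A → χ ≠ X → χ ≠ C₂ → χ ≠ C₃ → (∀ k, χ ≠ Z k) →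
      ∀ l, 0 < l → l < 2 * h → (χ : G → ℂ) (σ ^ l) = 0 := by
    intro χ hχ h1 h2 h3 h4 h5 h6 l hl0 hl
    rw [hval χ l hl0 hl, hu χ hχ, hw χ hχ, Finset.sum_eq_zero]
    · simp [h1, h2, h3, h4, h5]
    · intro k hk
      rw [hvk χ hχ k hk, if_neg h3, if_neg (h6 ⟨k, hk⟩)]
      simp
  -- nothing else is in the block
  have hall : ∀ χ ∈ pb M G, χ ≠ (Char.trivialIrr G) → χ ≠ A → χ ≠ X → χ ≠ C₂ → χ ≠ C₃ → ∃ k, χ = Z k := by
    intro χ hχ h1 h2 h3 h4 h5
    by_contra hcon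
    push Not at hcon
    have hrot := hother χ hχ h1 h2 h3 h4 h5 hcon
    have hrefl : ∀ i : ℕ, (χ : G → ℂ) (σ ^ i * τ) = 0 := by
      intro i
      by_cases hc : IsConj (σ ^ h) (σ ^ i * τ)
      · rw [← Char.isClassFunction_eq_of_isConj (Char.irr_isClassFunction χ.2) hc]
        exact hrot h (by omega) (by omega)
      set r := σ ^ i * τ with hr
      have hro : orderOf r = 2 := D.orderOf_refl i
      choose n hn hn2 using fun ψ : IrrCharacter G => S0944.result ψ r hro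
      choose m hm hm2 using fun ψ : IrrCharacter G => S0944.result ψ (σ ^ h) D.orderOf_J
      have hodd : ∀ ψ : IrrCharacter G, ((ψ : G → ℂ) (σ ^ h) = 1 ∨ (ψ : G → ℂ) (σ ^ h) = -1) →
          1 ≤ n ψ * n ψ := by
        intro ψ hψ
        have hm' : m ψ = 1 ∨ m ψ = -1 := by
          rcases hψ with e | e <;> rw [hm ψ] at e
          · exact Or.inl (by exact_mod_cast e)
          · exact Or.inr (by exact_mod_cast e)
        have h0 : n ψ ≠ 0 := by
          obtain ⟨c, hc⟩ := hn2 ψ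
          obtain ⟨d, hd⟩ := hm2 ψ
          omega
        rcases lt_or_gt_of_ne h0 with e | e <;> nlinarith
      have hpm : ∀ e : ℤ, (e = 1 ∨ e = -1) → ((e : ℂ) = 1 ∨ (e : ℂ) = -1) := by
        rintro e (rfl | rfl) <;> norm_num
      have hJ1 : (-1 : ℂ) ^ h = 1 := heven.neg_one_pow
      have p1 := hodd (Char.trivialIrr G) (Or.inl rfl)
      have p2 := hodd A (by rw [hA' h (by omega) (by omega)]; exact hpm α hα)
      have p3 := hodd C₂ (by rw [hC₂' h (by omega) (by omega), hJ1, mul_one]; exact hpm e₂ he₂)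
      have p4 := hodd C₃ (by rw [hC₃' h (by omega) (by omega), hJ1, mul_one]; exact hpm e₃ he₃)
      have hr1 : r ≠ 1 := fun e => by rw [e, orderOf_one] at hro; omega
      have hcol := col hM (v := r) (w := r) (k := 1) (l := 1) (by rw [hro, pow_one])
        (by rw [hro, pow_one]) (D.hasComplement (k := 1) (by rw [hro, pow_one]) hr1)
      rw [if_pos (IsConj.refl r)] at hcol
      simp only [hn, map_intCast] at hcol
      have hle : ∑ ψ ∈ pb M G, n ψ * n ψ ≤ 4 := by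
        have h4 := D.ordProj_refl_le hc
        have e : ((∑ ψ ∈ pb M G, n ψ * n ψ : ℤ) : ℂ)
            = (((ordProj[2] (Nat.card (Subgroup.centralizer ({r} : Set G))) : ℕ) : ℤ) : ℂ) := by
          push_cast at hcol ⊢
          exact hcol
        rw [Int.cast_inj.mp e]
        exact_mod_cast h4
      have hsub : ∑ ψ ∈ ({(Char.trivialIrr G), A, C₂, C₃, χ} : Finset (IrrCharacter G)), n ψ * n ψ
          ≤ ∑ ψ ∈ pb M G, n ψ * n ψ := by
        refine Finset.sum_le_sum_of_subset_of_nonneg ?_ fun ψ _ _ => mul_self_nonneg _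
        intro ψ hψ
        simp only [Finset.mem_insert, Finset.mem_singleton] at hψ
        rcases hψ with rfl | rfl | rfl | rfl | rfl
        exacts [trivial_mem_pb hM, hA, hC₂, hC₃, hχ]
      rw [Finset.sum_insert (by simp [hAT.symm, hC₂T.symm, hC₃T.symm, h1.symm]),
        Finset.sum_insert (by simp [hAC₂, hAC₃, h2.symm]),
        Finset.sum_insert (by simp [hC₂₃, h4.symm]),
        Finset.sum_pair h5.symm] at hsub
      have h0 : n χ * n χ = 0 := by
        have := mul_self_nonneg (n χ)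
        omega
      rw [hn χ, mul_self_eq_zero.mp h0, Int.cast_zero]
    obtain ⟨z, k, hz, hz1, hzχ⟩ := exists_ne_zero hM (fun v k hv hv1 => D.hasComplement hv hv1) hχ h1
    obtain ⟨R, hR⟩ := (IsPGroup.of_card (p := 2) (G := Subgroup.zpowers z) (n := k)
      (by rw [Nat.card_zpowers, hz])).exists_le_sylow
    obtain ⟨a, ha⟩ := MulAction.exists_smul_eq G R P
    have hzP : a * z * a⁻¹ ∈ (P : Subgroup G) := by
      rw [← ha, Sylow.coe_subgroup_smul]
      exact ⟨z, hR (Subgroup.mem_zpowers z), rfl⟩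
    rw [← Char.irr_isClassFunction χ.2 z a] at hzχ
    rcases D.cases hzP with ⟨i, hi, e⟩ | ⟨i, -, e⟩
    · rw [e] at hzχ
      rcases Nat.eq_zero_or_pos i with rfl | hi0
      · exact hz1 (conj_eq_one_iff.mp (by rw [e, pow_zero]))
      · exact hzχ (hrot i hi0 hi)
    · rw [e] at hzχ
      exact hzχ (hrefl i)
  -- assemble
  let χ' : Fin (h - 1) → IrrCharacter G := fun j =>
    if hj : (j : ℕ) = 0 then X
    else Z ⟨(j : ℕ) + 1, Finset.mem_Ico.mpr ⟨by omega, by have := j.2; omega⟩⟩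
  have hχ'0 : ∀ j : Fin (h - 1), (j : ℕ) = 0 → χ' j = X := fun j hj => dif_pos hj
  have hχ'1 : ∀ (j : Fin (h - 1)) (hj : (j : ℕ) ≠ 0),
      χ' j = Z ⟨(j : ℕ) + 1, Finset.mem_Ico.mpr ⟨by omega, by have := j.2; omega⟩⟩ :=
    fun j hj => dif_neg hj
  have hinj : Function.Injective χ' := by
    intro i j e
    refine Fin.ext ?_
    by_cases hi : (i : ℕ) = 0 <;> by_cases hj : (j : ℕ) = 0
    · rw [hi, hj]
    · rw [hχ'0 i hi, hχ'1 j hj] at e; exact absurd e.symm (hZd _).2.2.1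
    · rw [hχ'0 j hj, hχ'1 i hi] at e; exact absurd e (hZd _).2.2.1
    · rw [hχ'1 i hi, hχ'1 j hj] at e
      have := congrArg Subtype.val (hZi e)
      simp only at this
      omega
  refine ⟨A, C₂, C₃, χ', α, -e₂, -e₃, hα, by omega, by omega, hinj, hAT, hC₂T, hC₃T, hAC₂, hAC₃,
    hC₂₃, fun j => ?_, fun χ => ⟨fun hχ => ?_, ?_⟩, fun l hl0 hl => ⟨hA' l hl0 hl, ?_, ?_, fun j => ?_⟩,
    fun ρ hρ j => ?_⟩
  · by_cases hj : (j : ℕ) = 0
    · rw [hχ'0 j hj]; exact ⟨hAX.symm, hXC₂, hXC₃, hXT⟩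
    · rw [hχ'1 j hj]
      exact ⟨(hZd _).2.1, (hZd _).2.2.2.1, (hZd _).2.2.2.2, (hZd _).1⟩
  · by_cases h1 : χ = (Char.trivialIrr G)
    · exact Or.inl h1
    by_cases h2 : χ = A
    · exact Or.inr (Or.inl h2)
    by_cases h4 : χ = C₂
    · exact Or.inr (Or.inr (Or.inl h4))
    by_cases h5 : χ = C₃
    · exact Or.inr (Or.inr (Or.inr (Or.inl h5)))
    refine Or.inr (Or.inr (Or.inr (Or.inr ?_)))
    by_cases h3 : χ = X
    · exact ⟨⟨0, by omega⟩, by rw [hχ'0 _ rfl]; exact h3⟩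
    obtain ⟨⟨k, hk⟩, rfl⟩ := hall χ hχ h1 h2 h3 h4 h5
    have hk' := Finset.mem_Ico.mp hk
    refine ⟨⟨k - 1, by omega⟩, ?_⟩
    rw [hχ'1 _ (show k - 1 ≠ 0 by omega)]
    congr 1
    exact Subtype.ext (show k = k - 1 + 1 by omega)
  · rintro (rfl | rfl | rfl | rfl | ⟨j, rfl⟩)
    · exact trivial_mem_pb hM
    · exact hA
    · exact hC₂
    · exact hC₃
    · by_cases hj : (j : ℕ) = 0
      · rw [hχ'0 j hj]; exact hX
      · rw [hχ'1 j hj]; exact hZ _
  · rw [hC₂' l hl0 hl]; push_cast; ring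
  · rw [hC₃' l hl0 hl]; push_cast; ring
  · by_cases hj : (j : ℕ) = 0
    · rw [hχ'0 j hj, hX' l hl0 hl, hj]
    · rw [hχ'1 j hj, hZ' _ l hl0 hl]
  · have hlin : ∀ (a : ℕ) (f : IrrCharacter G → ℤ), (∀ i ∈ pb M G, b i a = f i) →
        ∑ i ∈ pb M G, (f i : ℂ) * (i : G → ℂ) ρ = 0 := by
      intro a f hf
      rw [← D.sum_bd_regular hζ hM (a : ZMod (2 * h)) hρ]
      exact Finset.sum_congr rfl fun i hi => by rw [← hf i hi]
    have r1 := hlin 0 _ hvu
    have r2 := hlin h _ hw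
    simp only [Int.cast_add, Int.cast_ite, Int.cast_zero, Int.cast_one, Int.cast_neg, add_mul,
      ite_mul, zero_mul, Finset.sum_add_distrib, Finset.sum_ite_eq', trivial_mem_pb hM, hA, hX,
      hC₂, hC₃, if_true, show ((Char.trivialIrr G : IrrCharacter G) : G → ℂ) ρ = 1 from rfl,
      mul_one] at r1 r2
    have hj' : (χ' j : G → ℂ) ρ = (X : G → ℂ) ρ := by
      by_cases hj : (j : ℕ) = 0
      · rw [hχ'0 j hj]
      · rw [hχ'1 j hj]
        set k : κ := ⟨(j : ℕ) + 1, Finset.mem_Ico.mpr ⟨by omega, by have := j.2; omega⟩⟩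
        have r3 := hlin k.1 _ (hv k)
        simp only [Int.cast_add, Int.cast_ite, Int.cast_zero, Int.cast_neg, add_mul, ite_mul,
          zero_mul, Finset.sum_add_distrib, Finset.sum_ite_eq', hX, hZ k, if_true] at r3
        rcases hα with e | e <;> rw [e] at r3 <;> push_cast at r3
        · linear_combination r3
        · linear_combination -r3
    rw [hj']
    constructor
    · push_cast
      linear_combination r1 - r2
    · linear_combination r1

end Dih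

end Cfsg.Agent.DihBlock
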